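import Mathlib

/-!
# Elements of `A₆`, `A₇` and `L₃(2)`

The Sylow three-subgroup of `A₆` and `A₇` with the action of its normaliser, and a presentation of
`L₃(2)` by an element of order seven and an involution.
-/

set_option autoImplicit false
set_option maxHeartbeats 4000000
set_option maxRecDepth 10000
set_option synthInstance.maxSize 4000
set_option synthInstance.maxHeartbeats 400000

namespace Cfsg.Lib.Linear.Mitchell.Sub3

open Equiv Equiv.Perm

/-- A group with an elementary abelian Sylow subgroup of order nine on whose lines a group of order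
four acts with two orbits, separated by a class function. -/
structure NineData (A : Type*) [Group A] where
  a : A
  b : A
  j : A
  u : A
  a3 : a ^ 3 = 1
  b3 : b ^ 3 = 1
  comm : a * b = b * a
  ja : j * a * j⁻¹ = b
  jb : j * b * j⁻¹ = a⁻¹
  ua : u * a * u⁻¹ = a⁻¹
  ub : u * b * u⁻¹ = b⁻¹
  indep : ∀ i l : ℕ, i < 3 → l < 3 → a ^ i * b ^ l = 1 → i = 0 ∧ l = 0
  card : ∃ m, Nat.card A = 9 * m ∧ ¬ 3 ∣ m
  cls : A → Prop
  cls_conj : ∀ q x, cls (q * x * q⁻¹) ↔ cls x
  cls_a : cls a
  not_cls : ¬ cls (a * b)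

/-- An element of `A₆`. -/
abbrev e6 (σ : Perm (Fin 6)) (h : Equiv.Perm.sign σ = 1 := by decide +kernel) : alternatingGroup (Fin 6) :=
  ⟨σ, Equiv.Perm.mem_alternatingGroup.2 h⟩

/-- An element of `A₇`. -/
abbrev e7 (σ : Perm (Fin 7)) (h : Equiv.Perm.sign σ = 1 := by decide +kernel) : alternatingGroup (Fin 7) :=
  ⟨σ, Equiv.Perm.mem_alternatingGroup.2 h⟩

theorem card_support_conj_alt {n : ℕ} (q x : alternatingGroup (Fin n)) :
    ((q * x * q⁻¹ : alternatingGroup (Fin n)) : Perm (Fin n)).support.card = 3 ↔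
      (x : Perm (Fin n)).support.card = 3 := by
  rw [Subgroup.coe_mul, Subgroup.coe_mul, Subgroup.coe_inv, Equiv.Perm.card_support_conj]

/-- The data for `A₆`. -/
def nineSix : NineData (alternatingGroup (Fin 6)) where
  a := e6 c[(0 : Fin 6), 1, 2]
  b := e6 c[(3 : Fin 6), 4, 5]
  j := e6 (c[(0 : Fin 6), 3] * c[(1 : Fin 6), 4, 2, 5])
  u := e6 (c[(0 : Fin 6), 1] * c[(3 : Fin 6), 4])
  a3 := by decide +kernel
  b3 := by decide +kernel
  comm := by decide +kernel
  ja := by decide +kernel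
  jb := by decide +kernel
  ua := by decide +kernel
  ub := by decide +kernel
  indep := fun i l hi hl => by interval_cases i <;> interval_cases l <;> decide +kernel
  card := ⟨40, by rw [Nat.card_eq_fintype_card]; decide +kernel, by norm_num⟩
  cls := fun x => (x : Perm (Fin 6)).support.card = 3
  cls_conj := card_support_conj_alt
  cls_a := by decide +kernel
  not_cls := by decide +kernel

/-- The data for `A₇`. -/
def nineSeven : NineData (alternatingGroup (Fin 7)) where
  a := e7 c[(0 : Fin 7), 1, 2]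
  b := e7 c[(3 : Fin 7), 4, 5]
  j := e7 (c[(0 : Fin 7), 3] * c[(1 : Fin 7), 4, 2, 5])
  u := e7 (c[(0 : Fin 7), 1] * c[(3 : Fin 7), 4])
  a3 := by decide +kernel
  b3 := by decide +kernel
  comm := by decide +kernel
  ja := by decide +kernel
  jb := by decide +kernel
  ua := by decide +kernel
  ub := by decide +kernel
  indep := fun i l hi hl => by interval_cases i <;> interval_cases l <;> decide +kernel
  card := ⟨280, by
    have h := two_mul_nat_card_alternatingGroup (α := Fin 7)
    rw [Nat.card_eq_fintype_card (α := Perm (Fin 7)), Fintype.card_perm, Fintype.card_fin] at h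
    simp [Nat.factorial] at h ⊢
    omega, by norm_num⟩
  cls := fun x => (x : Perm (Fin 7)).support.card = 3
  cls_conj := card_support_conj_alt
  cls_a := by decide +kernel
  not_cls := by decide +kernel

/-- An involution centralises a three-cycle of `A₇`. -/
theorem seven_invol_a : ∃ v : alternatingGroup (Fin 7),
    v * v = 1 ∧ v ≠ 1 ∧ v * nineSeven.a = nineSeven.a * v :=
  ⟨e7 (c[(3 : Fin 7), 4] * c[(5 : Fin 7), 6]), by decide +kernel, by decide +kernel, by decide +kernel⟩

/-- None centralises a product of two. -/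
theorem seven_invol_ab : ∀ v : alternatingGroup (Fin 7),
    v * v = 1 → v * (nineSeven.a * nineSeven.b) = nineSeven.a * nineSeven.b * v → v = 1 := by
  decide +kernel

/-- An element of order five of `A₆`. -/
def fiveSix : alternatingGroup (Fin 6) := e6 c[(0 : Fin 6), 1, 2, 3, 4]

theorem fiveSix_facts : fiveSix ^ 5 = 1 ∧ fiveSix ≠ 1 ∧ (fiveSix * nineSix.a) ^ 5 = 1 ∧
    (fiveSix * nineSix.b) ^ 4 = 1 ∧ ∃ h, h * fiveSix = fiveSix⁻¹ * h := by
  decide +kernel

/-- Only the other class of five-elements has these products. -/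
theorem fiveSix_swap : ∀ g : alternatingGroup (Fin 6), g ^ 5 = 1 → g ≠ 1 →
    (g * (nineSix.a * nineSix.b)) ^ 5 = 1 → (g * (nineSix.a * nineSix.b⁻¹)) ^ 4 = 1 →
    ∃ h, h * g = fiveSix ^ 2 * h := by
  decide +kernel

local notation "M2" => Matrix.SpecialLinearGroup (Fin 3) (ZMod 2)

/-- The element of order seven. -/
def g32 : M2 := ⟨!![0, 0, 1; 1, 0, 1; 0, 1, 0], by decide +kernel⟩

/-- The involution. -/
def u32 : M2 := ⟨!![0, 0, 1; 1, 1, 1; 1, 0, 0], by decide +kernel⟩

/-- An element squaring `g32`. -/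
def t32 : M2 := ⟨!![0, 0, 1; 0, 1, 0; 1, 1, 1], by decide +kernel⟩

theorem m32_facts : g32 ^ 7 = 1 ∧ g32 ≠ 1 ∧ u32 * u32 = 1 ∧ u32 ≠ 1 ∧ (u32 * g32) ^ 3 = 1 ∧
    t32 * g32 * t32⁻¹ = g32 ^ 2 := by decide +kernel

theorem m32_card : Fintype.card M2 = 168 := by decide +kernel

theorem m32_center : ∀ z : M2, z * g32 = g32 * z → z * u32 = u32 * z → z = 1 := by decide +kernel

theorem m32_invol : ∀ v : M2, v * v = 1 → v ≠ 1 → (v * g32) ^ 3 = 1 →
    ∃ m : Fin 7, v = g32 ^ (m : ℕ) * u32 * (g32 ^ (m : ℕ))⁻¹ := by decide +kernel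

theorem m32_gen : ∀ x : M2, ∃ i l j k : Fin 7,
    x = g32 ^ (i : ℕ) * (u32 * g32 ^ (j : ℕ) * u32 * g32 ^ (k : ℕ) * u32) * g32 ^ (l : ℕ) := by
  decide +kernel

end Cfsg.Lib.Linear.Mitchell.Sub3
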