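import Cfsg.Agent.Lib.Linear.Mitchell.Sub3.Reducible
import Cfsg.Agent.Lib.Linear.Aschbacher.Core

/-!
# The perfect core

A subgroup of `SL₃` without solvable normal subgroups modulo scalars is neither monomial nor
normalises a cubic field or an extraspecial group, so it has a perfect core, simple modulo scalars,
with scalar centraliser.
-/

set_option autoImplicit false

namespace Cfsg.Lib.Linear.Mitchell.Sub3

open Cfsg.Geo
open scoped Matrix MatrixGroups

variable {F : Type*} [Field F] [Fintype F] {G : Subgroup (GL (Fin 3) F)}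

theorem isSolvable_perm_three : Group.IsSolvable (Equiv.Perm (Fin 3)) := by
  haveI : Group.IsSolvable (alternatingGroup (Fin 3)) := Group.isSolvable_of_comm (by decide)
  haveI : Group.IsSolvable ℤˣ := Dickson.isSolvable_comm
  exact Group.isSolvable_of_ker_le_range (alternatingGroup (Fin 3)).subtype Equiv.Perm.sign
    (by rw [Subgroup.range_subtype]; exact le_rfl)

theorem monomial_solvable (hG : RadFree G) {D : Fin 3 → Submodule F (Fin 3 → F)}
    (hD : IsMDecomposition 1 D) (hle : G ≤ decompositionStabilizer D) : Group.IsSolvable G := by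
  have hinj : Function.Injective D := fun i j e => by
    by_contra hij
    have hd := hD.indep.pairwiseDisjoint hij
    rw [Function.onFun, e, disjoint_self] at hd
    have := hD.finrank_eq j
    rw [hd, finrank_bot] at this
    exact zero_ne_one this
  choose σ hσ using fun g : G => (hle g.2 : (g : GL (Fin 3) F) ∈ decompositionStabilizer D)
  let φ : G →* Equiv.Perm (Fin 3) := MonoidHom.mk' σ (fun a b => Equiv.ext fun i => hinj (by
    rw [← hσ (a * b) i, Subgroup.coe_mul, Units.val_mul, Matrix.toLin'_mul, Submodule.map_comp,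
      hσ b i, hσ a (σ b i), Equiv.Perm.mul_apply]))
  have hA : φ.ker.map G.subtype ≤ scalars (Fin 3) F := by
    refine hG.scalar_of_abelian (by rintro _ ⟨g, -, rfl⟩; exact g.2) ?_ ?_
    · rintro g hg _ ⟨x, hx, rfl⟩
      have hc := (MonoidHom.normal_ker φ).conj_mem x hx ⟨g, hg⟩
      exact Subgroup.mem_map_of_mem G.subtype hc
    · rintro _ ⟨a, ha, rfl⟩ _ ⟨b, hb, rfl⟩
      have hfix : ∀ g : G, g ∈ φ.ker → ∀ i, ∀ v ∈ D i, (g : GL (Fin 3) F).val *ᵥ v ∈ D i := by
        intro g hg i v hv
        have he : σ g = 1 := MonoidHom.mem_ker.1 hg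
        have h := Submodule.mem_map_of_mem (f := Matrix.toLin' (g : GL (Fin 3) F).val) hv
        rwa [hσ, he, Equiv.Perm.one_apply, Matrix.toLin'_apply] at h
      apply Units.ext
      show a.1.val * b.1.val = b.1.val * a.1.val
      refine Matrix.toLin'.injective (LinearMap.ext fun v => ?_)
      have hv : v ∈ iSup D := by rw [hD.iSup_eq_top]; trivial
      refine Submodule.iSup_induction D (motive := fun v =>
        Matrix.toLin' (a.1.val * b.1.val) v = Matrix.toLin' (b.1.val * a.1.val) v) hv (fun i x hx => ?_)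
        (by simp) (fun x y e1 e2 => by simp only [map_add, e1, e2])
      rcases eq_or_ne x 0 with rfl | hx0
      · simp
      have hgen := (finrank_eq_one_iff_of_nonzero' (⟨x, hx⟩ : D i)
        (fun e => hx0 (congrArg Subtype.val e))).1 (hD.finrank_eq i)
      obtain ⟨c, hc⟩ := hgen ⟨_, hfix a ha i x hx⟩
      obtain ⟨d, hd⟩ := hgen ⟨_, hfix b hb i x hx⟩
      have hc' : c • x = a.1.val *ᵥ x := congrArg Subtype.val hc
      have hd' : d • x = b.1.val *ᵥ x := congrArg Subtype.val hd
      simp only [Matrix.toLin'_mul, LinearMap.comp_apply, Matrix.toLin'_apply]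
      rw [← hd', ← hc', Matrix.mulVec_smul, Matrix.mulVec_smul, ← hd', ← hc', smul_smul, smul_smul,
        mul_comm]
  haveI : Group.IsSolvable φ.ker := Group.isSolvable_of_comm fun a b => Subtype.ext (Subtype.ext
    (scalars_comm' (hA ⟨b, b.2, rfl⟩) _))
  haveI := isSolvable_perm_three
  exact Group.isSolvable_of_ker_le_range φ.ker.subtype φ (by rw [Subgroup.range_subtype])

theorem centralizer_field_mem {K : Subalgebra F (Matrix (Fin 3) (Fin 3) F)}
    (hK : IsFieldSubalgebra 3 K) {M : Matrix (Fin 3) (Fin 3) F}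
    (hM : ∀ k ∈ K, M * k = k * M) : M ∈ K := by
  let v : Fin 3 → F := ev 0
  let Φ : K →ₗ[F] (Fin 3 → F) :=
    { toFun := fun k => (k : Matrix (Fin 3) (Fin 3) F) *ᵥ v
      map_add' := fun a b => by simp [Matrix.add_mulVec]
      map_smul' := fun c a => by simp [Matrix.smul_mulVec] }
  have hv0 : v ≠ 0 := fun e => by simpa [v, ev] using congrFun e 0
  have hinj : Function.Injective Φ := by
    rw [← LinearMap.ker_eq_bot, Submodule.eq_bot_iff]
    rintro ⟨k, hk⟩ h
    rw [LinearMap.mem_ker] at h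
    change k *ᵥ v = 0 at h
    by_contra hne
    obtain ⟨y, -, hy⟩ := hK.inv k hk (fun e => hne (Subtype.ext e))
    have hy' : y * k = 1 := mul_eq_one_comm.1 hy
    exact hv0 (by rw [← Matrix.one_mulVec v, ← hy', ← Matrix.mulVec_mulVec, h, Matrix.mulVec_zero])
  have hsur : Function.Surjective Φ :=
    (LinearMap.injective_iff_surjective_of_finrank_eq_finrank (by
      rw [Module.finrank_fin_fun]; exact hK.finrank_eq)).1 hinj
  obtain ⟨k, hk⟩ := hsur (M *ᵥ v)
  change (k : Matrix (Fin 3) (Fin 3) F) *ᵥ v = M *ᵥ v at hk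
  have hMk : M = k := by
    refine Matrix.toLin'.injective (LinearMap.ext fun w => ?_)
    obtain ⟨l, hl⟩ := hsur w
    change (l : Matrix (Fin 3) (Fin 3) F) *ᵥ v = w at hl
    rw [Matrix.toLin'_apply, Matrix.toLin'_apply, ← hl, Matrix.mulVec_mulVec, hM l l.2,
      ← Matrix.mulVec_mulVec, ← hk, Matrix.mulVec_mulVec, hK.comm l l.2 k k.2, ← Matrix.mulVec_mulVec]
  exact hMk ▸ k.2

theorem field_solvable (hG : RadFree G) {K : Subalgebra F (Matrix (Fin 3) (Fin 3) F)}
    (hK : IsFieldSubalgebra 3 K) (hle : G ≤ subalgebraNormalizer K) : Group.IsSolvable G := by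
  haveI : Nontrivial K := ⟨0, 1, fun e => zero_ne_one (congrArg Subtype.val e : (0 : Matrix (Fin 3) (Fin 3) F) = 1)⟩
  have hfield : IsField K :=
    { exists_pair_ne := exists_pair_ne K
      mul_comm := fun a b => Subtype.ext (hK.comm a a.2 b b.2)
      mul_inv_cancel := fun {a} ha => by
        obtain ⟨y, hy, e⟩ := hK.inv a a.2 (fun e => ha (Subtype.ext e))
        exact ⟨⟨y, hy⟩, Subtype.ext e⟩ }
  letI : Field K := hfield.toField
  haveI : Finite K := inferInstance
  let act : G → (K ≃ₐ[F] K) := fun g =>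
    AlgEquiv.ofBijective
      { toFun := fun k => ⟨g.1.val * k * (g.1⁻¹).val, ((hle g.2) _).1 k.2⟩
        map_one' := Subtype.ext (by simp [Units.mul_inv])
        map_mul' := fun a b => Subtype.ext (by simp [mul_assoc, Units.inv_mul_cancel_left])
        map_zero' := Subtype.ext (by simp)
        map_add' := fun a b => Subtype.ext (by simp [mul_add, add_mul])
        commutes' := fun c => Subtype.ext (by
          simp [Algebra.algebraMap_eq_smul_one, Units.mul_inv]) }
      ⟨fun a b e => Subtype.ext (by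
          have := congrArg (fun k : K => (g.1⁻¹).val * (k : Matrix (Fin 3) (Fin 3) F) * g.1.val) e
          simpa [mul_assoc, Units.inv_mul, Units.inv_mul_cancel_left] using this),
        fun k => ⟨⟨(g.1⁻¹).val * k * g.1.val, ((hle g.2) _).2 (by
          simp [mul_assoc, Units.mul_inv, Units.mul_inv_cancel_left])⟩, Subtype.ext (by
          simp [mul_assoc, Units.mul_inv, Units.mul_inv_cancel_left])⟩⟩
  have hact : ∀ g k, (act g k : Matrix (Fin 3) (Fin 3) F) = g.1.val * k * (g.1⁻¹).val := fun g k => rfl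
  let φ : G →* (K ≃ₐ[F] K) := MonoidHom.mk' act (fun a b => AlgEquiv.ext fun k => Subtype.ext (by
    rw [AlgEquiv.mul_apply, hact, hact, hact]
    simp [mul_assoc]))
  have hA : φ.ker.map G.subtype ≤ scalars (Fin 3) F := by
    refine hG.scalar_of_abelian (by rintro _ ⟨g, -, rfl⟩; exact g.2) ?_ ?_
    · rintro g hg _ ⟨x, hx, rfl⟩
      have hc := (MonoidHom.normal_ker φ).conj_mem x hx ⟨g, hg⟩
      exact Subgroup.mem_map_of_mem G.subtype hc
    · rintro _ ⟨a, ha, rfl⟩ _ ⟨b, hb, rfl⟩
      have hmem : ∀ g : G, g ∈ φ.ker → g.1.val ∈ K := fun g hg => centralizer_field_mem hK fun k hk => by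
        have h1 := DFunLike.congr_fun (MonoidHom.mem_ker.1 hg) ⟨k, hk⟩
        have h2 : g.1.val * k * (g.1⁻¹).val = k := (hact g ⟨k, hk⟩).symm.trans (congrArg Subtype.val h1)
        calc g.1.val * k = g.1.val * k * (g.1⁻¹).val * g.1.val := by
              rw [mul_assoc _ (g.1⁻¹).val, Units.inv_mul, mul_one]
          _ = k * g.1.val := by rw [h2]
      exact Units.ext (hK.comm _ (hmem a ha) _ (hmem b hb))
  haveI : Group.IsSolvable φ.ker := Group.isSolvable_of_comm fun a b => Subtype.ext (Subtype.ext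
    (scalars_comm' (hA ⟨b, b.2, rfl⟩) _))
  haveI : IsCyclic (K ≃ₐ[F] K) := inferInstance
  haveI : Group.IsSolvable (K ≃ₐ[F] K) := by
    letI := IsCyclic.commGroup (α := K ≃ₐ[F] K)
    exact Dickson.isSolvable_comm
  exact Group.isSolvable_of_ker_le_range φ.ker.subtype φ (by rw [Subgroup.range_subtype])

/-- A perfect core with scalar centraliser. -/
theorem exists_core (p : ℕ) [Fact p.Prime] [CharP F p] (h2 : (2 : F) ≠ 0)
    (hSL : G ≤ specialLinear (Fin 3) F) (hG : RadFree G) (hne : ¬ G ≤ scalars (Fin 3) F) :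
    ∃ P : Subgroup (GL (Fin 3) F), Core P ∧ P ≤ G ∧ (∀ g ∈ G, ∀ x ∈ P, g * x * g⁻¹ ∈ P) ∧
      ∀ h ∈ G, (∀ x ∈ P, h * x * h⁻¹ * x⁻¹ ∈ scalars (Fin 3) F) → h ∈ scalars (Fin 3) F := by
  have hirr := irreducible_of_radFree p h2 hSL hG hne
  rcases Asch.core_cases (r := 3) Nat.prime_three (by decide) (by simp) hSL hirr with
    ⟨D, hD, hle, -⟩ | ⟨K, hK, hle, -⟩ | ⟨R, c, x, y, z, hRG, hRn, hR⟩ |
      ⟨P, hPG, hPn, hperf, hsimp, hna, hcent, habs⟩
  · exact absurd (monomial_solvable hG hD hle) (hG.not_solvable hne)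
  · exact absurd (field_solvable hG hK hle) (hG.not_solvable hne)
  · exfalso
    haveI : Fact (Nat.Prime 3) := ⟨Nat.prime_three⟩
    haveI : Group.IsSolvable R := by
      haveI := (IsPGroup.of_card hR.card).isNilpotent
      infer_instance
    have hs := hG R hRG hRn inferInstance
    exact Asch.not_irr_scalars (by simp) hs hR.absIrr.1
  · exact ⟨P, ⟨hPG.trans hSL, hperf, hsimp, hna, habs⟩, hPG, hPn, hcent⟩

end Cfsg.Lib.Linear.Mitchell.Sub3
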