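import Cfsg.Agent.Lib.Linear.Mitchell.Sub3.Basic
import Cfsg.Agent.Lib.Linear.Mitchell.Sub3.Target
import Cfsg.Agent.Lib.Linear.Mitchell.MaxCardsQuad
import Cfsg.Agent.Lib.Linear.JordanForms.Fix
import Cfsg.Agent.Lib.Dickson.PGLMax.Borel
import Cfsg.Agent.Lib.Dickson.Solvable
import Cfsg.Agent.Lib.Dickson.Orders
import Cfsg.Agent.S0253

/-!
# The orthogonal case

`PGL₂(q)` is the special orthogonal group of a non-degenerate form in three variables, so a group
normalising an absolutely irreducible group which fixes such a form is a subgroup of `PGL₂(q)` modulo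
scalars, and Dickson's list leaves `PSL₂`, `PGL₂` over subfields and `A₅`.
-/

set_option autoImplicit false

namespace Cfsg.Lib.Linear.Mitchell.Sub3

open Cfsg.Geo
open Cfsg.Lib.Linear.Mitchell.Max
open scoped Matrix MatrixGroups

variable {F : Type*} [Field F]

/-- The form `v₀² + v₁ v₂`. -/
def stdQuad (F : Type*) [Field F] : QuadraticForm F (Fin 3 → F) :=
  QuadraticMap.ofPolar (fun v => v 0 * v 0 + v 1 * v 2)
    (fun a v => by simp [smul_eq_mul]; ring)
    (fun u v w => by simp [QuadraticMap.polar]; ring)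
    (fun a u v => by simp [QuadraticMap.polar, smul_eq_mul]; ring)

theorem stdQuad_apply (v : Fin 3 → F) : stdQuad F v = v 0 * v 0 + v 1 * v 2 := rfl

theorem stdQuad_nondeg (h2 : (2 : F) ≠ 0) : (QuadraticMap.polarBilin (stdQuad F)).Nondegenerate := by
  have key : ∀ u : Fin 3 → F, (∀ v, QuadraticMap.polar (stdQuad F) u v = 0) → u = 0 := by
    intro u hu
    have h0 := hu (ev 0)
    have h1 := hu (ev 1)
    have h2' := hu (ev 2)
    simp [QuadraticMap.polar, stdQuad_apply, ev] at h0 h1 h2'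
    ring_nf at h0 h1 h2'
    funext i
    fin_cases i
    · exact (mul_eq_zero.1 h0).resolve_right h2
    · exact h2'
    · exact h1
  exact ⟨fun u hu => key u fun v => hu v,
    fun u hu => key u fun v => by rw [QuadraticMap.polar_comm]; exact hu v⟩

/-- The adjoint matrix of `A`. -/
def adMat (A : Matrix (Fin 2) (Fin 2) F) : Matrix (Fin 3) (Fin 3) F :=
  A.det⁻¹ • !![A 0 0 * A 1 1 + A 0 1 * A 1 0, -(A 0 0 * A 1 0), A 0 1 * A 1 1;
    -(2 * (A 0 0 * A 0 1)), A 0 0 * A 0 0, -(A 0 1 * A 0 1);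
    2 * (A 1 0 * A 1 1), -(A 1 0 * A 1 0), A 1 1 * A 1 1]

theorem adMat_mul (A B : Matrix (Fin 2) (Fin 2) F) : adMat (A * B) = adMat A * adMat B := by
  rw [adMat, adMat, adMat, Matrix.det_mul, mul_inv, Matrix.smul_mul, Matrix.mul_smul, smul_smul]
  congr 1
  ext i j
  fin_cases i <;> fin_cases j <;>
    simp [Matrix.mul_apply, Fin.sum_univ_two, Fin.sum_univ_three] <;> ring

theorem adMat_one : adMat (1 : Matrix (Fin 2) (Fin 2) F) = 1 := by
  ext i j
  fin_cases i <;> fin_cases j <;> simp [adMat]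

theorem adMat_det {A : Matrix (Fin 2) (Fin 2) F} (h : A.det ≠ 0) : (adMat A).det = 1 := by
  rw [adMat, Matrix.det_smul, Fintype.card_fin, inv_pow, inv_mul_eq_iff_eq_mul₀ (pow_ne_zero _ h), mul_one,
    Matrix.det_fin_three, Matrix.det_fin_two]
  simp
  ring

theorem adMat_quad {A : Matrix (Fin 2) (Fin 2) F} (h : A.det ≠ 0) (v : Fin 3 → F) :
    stdQuad F (adMat A *ᵥ v) = stdQuad F v := by
  rw [adMat, Matrix.smul_mulVec, QuadraticMap.map_smul, smul_eq_mul]
  have e : stdQuad F (!![A 0 0 * A 1 1 + A 0 1 * A 1 0, -(A 0 0 * A 1 0), A 0 1 * A 1 1;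
      -(2 * (A 0 0 * A 0 1)), A 0 0 * A 0 0, -(A 0 1 * A 0 1);
      2 * (A 1 0 * A 1 1), -(A 1 0 * A 1 0), A 1 1 * A 1 1] *ᵥ v) = A.det ^ 2 * stdQuad F v := by
    rw [stdQuad_apply, stdQuad_apply, Matrix.det_fin_two]
    simp [Matrix.mulVec, dotProduct, Fin.sum_univ_three]
    ring
  rw [e, ← mul_assoc, ← pow_two, ← mul_pow, inv_mul_cancel₀ h, one_pow, one_mul]

/-- The adjoint representation of `GL₂`. -/
def adHom (F : Type*) [Field F] : GL (Fin 2) F →* GL (Fin 3) F where
  toFun A := Matrix.GeneralLinearGroup.mkOfDetNeZero (adMat A.val) (by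
    rw [adMat_det (Matrix.GeneralLinearGroup.det A).ne_zero]; exact one_ne_zero)
  map_one' := Units.ext adMat_one
  map_mul' A B := Units.ext (adMat_mul A.val B.val)

theorem adHom_val (A : GL (Fin 2) F) : (adHom F A).val = adMat A.val := rfl

theorem adHom_ker (h2 : (2 : F) ≠ 0) : (adHom F).ker = Subgroup.center (GL (Fin 2) F) := by
  ext A
  have hd : A.val.det ≠ 0 := (Matrix.GeneralLinearGroup.det A).ne_zero
  rw [MonoidHom.mem_ker, Subgroup.mem_center_iff]
  constructor
  · intro h B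
    have e : adMat A.val = 1 := congrArg Units.val h
    have hinv : (A.val.det)⁻¹ ≠ 0 := inv_ne_zero hd
    have e12 := congrFun (congrFun e 1) 2
    have e21 := congrFun (congrFun e 2) 1
    have e11 := congrFun (congrFun e 1) 1
    have e00 := congrFun (congrFun e 0) 0
    simp [adMat, hinv] at e12 e21 e11 e00
    rw [inv_mul_eq_iff_eq_mul₀ hd, mul_one] at e11 e00
    rw [Matrix.det_fin_two, e12, zero_mul, sub_zero] at e11
    have ha : A.val 0 0 ≠ 0 := fun h0 => hd (by rw [Matrix.det_fin_two, h0, e12]; ring)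
    have had : A.val 0 0 = A.val 1 1 := mul_left_cancel₀ ha e11
    have hA : A.val = A.val 0 0 • (1 : Matrix (Fin 2) (Fin 2) F) := by
      ext i j
      fin_cases i <;> fin_cases j <;> simp [e12, e21, had]
    apply Units.ext
    rw [Units.val_mul, Units.val_mul, hA, Matrix.smul_mul, Matrix.mul_smul, mul_one, one_mul]
  · intro h
    obtain ⟨r, hr⟩ := Cfsg.Lib.Linear.Asch.exists_smul_one (M := A.val) fun v => by
      by_cases hv : v = 0
      · exact ⟨0, by simp [hv]⟩
      have c : ∀ B : GL (Fin 2) F, A.val * B.val = B.val * A.val := fun B => by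
        rw [← Units.val_mul, ← Units.val_mul, h B]
      have cu := c (Matrix.GeneralLinearGroup.mkOfDetNeZero !![1, 1; 0, 1] (by simp [Matrix.det_fin_two]))
      have cl := c (Matrix.GeneralLinearGroup.mkOfDetNeZero !![1, 0; 1, 1] (by simp [Matrix.det_fin_two]))
      have u00 := congrFun (congrFun cu 0) 0
      have u01 := congrFun (congrFun cu 0) 1
      have l00 := congrFun (congrFun cl 0) 0
      simp [Matrix.GeneralLinearGroup.mkOfDetNeZero, Matrix.mul_apply, Fin.sum_univ_two] at u00 u01 l00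
      refine ⟨A.val 0 0, ?_⟩
      funext i
      have h11 : A.val 1 1 = A.val 0 0 := by linear_combination -u01
      fin_cases i <;> simp [Matrix.mulVec, dotProduct, Fin.sum_univ_two, u00, l00, h11]
    apply Units.ext
    rw [adHom_val, hr, Units.val_one]
    have hr0 : r ≠ 0 := fun e => hd (by rw [hr, e, zero_smul]; simp)
    ext i j
    fin_cases i <;> fin_cases j <;> simp [adMat, hr0, Matrix.det_fin_two] <;> field_simp

theorem lift_injective {A B : Type*} [Group A] [Group B] {N : Subgroup A} [N.Normal] {φ : A →* B}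
    (h : N = φ.ker) : Function.Injective (QuotientGroup.lift N φ h.le) := by
  rw [injective_iff_map_eq_one]
  intro x
  induction x using QuotientGroup.induction_on with
  | H a => exact fun ha => (QuotientGroup.eq_one_iff a).2 (h ▸ MonoidHom.mem_ker.2 ha)

theorem isSolvable_pgl_three {K : Type*} [Field K] [Fintype K] (h : Fintype.card K = 3) :
    Group.IsSolvable (Matrix.ProjGenLinGroup (Fin 2) K) := by
  haveI := Dickson.isSolvable_psl_two_three h
  haveI : Group.IsSolvable (Subgroup.center (Matrix.SpecialLinearGroup (Fin 2) K)) :=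
    Group.isSolvable_of_comm fun a b => Subtype.ext (Subgroup.mem_center_iff.1 b.2 a)
  haveI : Group.IsSolvable (Matrix.SpecialLinearGroup (Fin 2) K) :=
    Group.isSolvable_of_ker_le_range (Subgroup.center (Matrix.SpecialLinearGroup (Fin 2) K)).subtype
      (QuotientGroup.mk' (Subgroup.center (Matrix.SpecialLinearGroup (Fin 2) K)))
      (by rw [QuotientGroup.ker_mk', Subgroup.range_subtype])
  haveI : Group.IsSolvable Kˣ := Dickson.isSolvable_comm
  haveI : Group.IsSolvable (GL (Fin 2) K) :=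
    Group.isSolvable_of_ker_le_range Matrix.SpecialLinearGroup.toGL Matrix.GeneralLinearGroup.det
      (fun g hg => ⟨⟨g.val, congrArg Units.val hg⟩, Units.ext rfl⟩)
  exact Group.isSolvable_of_surjective (QuotientGroup.mk'_surjective (Subgroup.center (GL (Fin 2) K)))

variable [Fintype F]

/-- `PGL₂` is the special orthogonal group. -/
theorem exists_pgl_so (h2 : (2 : F) ≠ 0) {Q : (Fin 3 → F) → F} (hQ : IsNondegenerateQuadraticForm Q) :
    Nonempty (Matrix.ProjGenLinGroup (Fin 2) F ≃*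
      (isom (QuadraticMap.polar Q) ⊓ specialLinear (Fin 3) F : Subgroup (GL (Fin 3) F))) := by
  classical
  let Qf : QuadraticForm F (Fin 3 → F) :=
    QuadraticMap.ofPolar Q (fun a v => by rw [hQ.smul, smul_eq_mul, pow_two])
      hQ.polar_bilinear.add_left hQ.polar_bilinear.smul_left
  have hQf : (QuadraticMap.polarBilin Qf).Nondegenerate := by
    refine ⟨fun u hu => ?_, fun u hu => ?_⟩ <;> by_contra hne
    · obtain ⟨x, hx⟩ := (hQ.nondegenerate u hne).2
      exact hx (hu x)
    · obtain ⟨x, hx⟩ := (hQ.nondegenerate u hne).1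
      exact hx (hu x)
  obtain ⟨T, c, hc, hT⟩ := Cfsg.Lib.Linear.JordanForms.exists_similar_odd (m := 1)
    (by rw [Module.finrank_fin_fun]) (by rw [Module.finrank_fin_fun]) Qf hQf (stdQuad F) (stdQuad_nondeg h2)
  set k : Matrix (Fin 3) (Fin 3) F := LinearMap.toMatrix' T.toLinearMap with hk
  have hkT : ∀ v, k *ᵥ v = T v := fun v => by rw [hk, LinearMap.toMatrix'_mulVec]; rfl
  have hkd : k.det ≠ 0 := fun e => by
    obtain ⟨v, hv, hv0⟩ := Matrix.exists_mulVec_eq_zero_iff.2 e
    exact hv (T.injective (by rw [← hkT, hv0, map_zero]))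
  set K := Matrix.GeneralLinearGroup.mkOfDetNeZero k hkd with hK
  let φ : GL (Fin 2) F →* GL (Fin 3) F := (MulAut.conj K⁻¹).toMonoidHom.comp (adHom F)
  have hφ : ∀ A, φ A ∈ isom (QuadraticMap.polar Q) ⊓ specialLinear (Fin 3) F := by
    intro A
    refine ⟨?_, (MonoidHom.normal_ker _).conj_mem _ (MonoidHom.mem_ker.2 (Units.ext (by
      rw [Matrix.GeneralLinearGroup.val_det_apply, adHom_val, Units.val_one]
      exact adMat_det (Matrix.GeneralLinearGroup.det A).ne_zero))) _⟩
    have hq : ∀ v, Q ((φ A).val *ᵥ v) = Q v := by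
      intro v
      refine mul_left_cancel₀ hc ?_
      have e : K.val *ᵥ ((φ A).val *ᵥ v) = (adHom F A).val *ᵥ (K.val *ᵥ v) := by
        simp only [φ, MonoidHom.comp_apply, MulEquiv.coe_toMonoidHom, MulAut.conj_apply, inv_inv,
          Matrix.mulVec_mulVec, ← Units.val_mul]
        rw [← mul_assoc, mul_inv_cancel_left]
      rw [← show stdQuad F (T ((φ A).val *ᵥ v)) = c * Q ((φ A).val *ᵥ v) from hT _,
        ← show stdQuad F (T v) = c * Q v from hT _, ← hkT, ← hkT]
      change stdQuad F (K.val *ᵥ ((φ A).val *ᵥ v)) = stdQuad F (K.val *ᵥ v)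
      rw [e, adHom_val, adMat_quad (Matrix.GeneralLinearGroup.det A).ne_zero]
    intro u v
    show QuadraticMap.polar Q ((φ A).val *ᵥ u) ((φ A).val *ᵥ v) = _
    simp only [QuadraticMap.polar, ← Matrix.mulVec_add, hq]
  let ψ : GL (Fin 2) F →* (isom (QuadraticMap.polar Q) ⊓ specialLinear (Fin 3) F : Subgroup (GL (Fin 3) F)) :=
    φ.codRestrict _ hφ
  have hker : ψ.ker = Subgroup.center (GL (Fin 2) F) := by
    rw [← adHom_ker h2]
    ext A
    rw [MonoidHom.mem_ker, MonoidHom.mem_ker, Subtype.ext_iff]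
    exact map_eq_one_iff _ (MulAut.conj K⁻¹).injective
  let ι : Matrix.ProjGenLinGroup (Fin 2) F →* (isom (QuadraticMap.polar Q) ⊓ specialLinear (Fin 3) F :
      Subgroup (GL (Fin 3) F)) := QuotientGroup.lift _ ψ (le_of_eq hker.symm)
  have hι : Function.Injective ι := lift_injective hker.symm
  exact ⟨MulEquiv.ofBijective ι (hι.bijective_of_nat_card_le (le_of_eq (by
    rw [card_SO_three h2 hQ, Dickson.card_PGL_two_eq]; rfl)))⟩

theorem RadFree.bar_radFree {G : Subgroup (GL (Fin 3) F)} (hG : RadFree G) {N : Subgroup (PBar G)}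
    (hN : N.Normal) (hsol : Group.IsSolvable N) : N = ⊥ := by
  haveI := hN
  haveI := hsol
  haveI := isSolvable_scalarsIn G
  set M := N.comap (toBar G) with hM
  haveI : Group.IsSolvable M := by
    let f : M →* N := ((toBar G).comp M.subtype).codRestrict N (fun x => x.2)
    haveI : Group.IsSolvable f.ker := Group.isSolvable_of_isSolvable_injective
      (f := ((M.subtype.comp f.ker.subtype).codRestrict ((scalars (Fin 3) F).subgroupOf G) fun x => by
        have hx : f x.1 = 1 := x.2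
        exact Subgroup.mem_subgroupOf.2 (toBar_eq_one.1 (congrArg Subtype.val hx))))
      (fun a b e => f.ker.subtype_injective (M.subtype_injective (by have e' := congrArg Subtype.val e; exact e')))
    exact Group.isSolvable_of_ker_le_range f.ker.subtype f (by rw [Subgroup.range_subtype])
  have hs : M.map G.subtype ≤ scalars (Fin 3) F := hG _ (by rintro _ ⟨g, -, rfl⟩; exact g.2)
    (by
      rintro g hg _ ⟨x, hx, rfl⟩
      have hc := (hN.comap (toBar G)).conj_mem x hx ⟨g, hg⟩
      exact Subgroup.mem_map_of_mem G.subtype hc)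
    (Dickson.isSolvable_congr (M.equivMapOfInjective _ G.subtype_injective).symm inferInstance)
  rw [eq_bot_iff]
  intro x hx
  obtain ⟨g, rfl⟩ := toBar_surjective G x
  exact toBar_eq_one.2 (hs ⟨g, hx, rfl⟩)

theorem arith_quad {p α β m : ℕ} (hp : p.Prime) (hp2 : p ≠ 2) (hβ : 4 ≤ p ^ β)
    (h : (p ^ β) ^ m = (p ^ α) ^ 2)
    (hdvd : p ^ β * ((p ^ β) ^ 2 - 1) ∣ 2 * (p ^ α * ((p ^ α) ^ 2 - 1))) : β ∣ α := by
  have he : β * m = α * 2 := Nat.pow_right_injective hp.two_le (by
    show p ^ (β * m) = p ^ (α * 2)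
    rw [pow_mul, pow_mul, h])
  rcases Nat.even_or_odd m with ⟨t, rfl⟩ | hm
  · exact ⟨t, by linarith⟩
  exfalso
  obtain ⟨γ, rfl⟩ : 2 ∣ β := by
    have h2 : 2 ∣ β * m := ⟨α, by rw [he, mul_comm]⟩
    exact (Nat.Coprime.dvd_of_dvd_mul_right (Nat.coprime_two_left.2 hm) h2)
  set Q := p ^ (2 * γ) with hQ
  have hQm : (p ^ α) ^ 2 = Q ^ m := h.symm
  have h1 : Q + 1 ∣ Q ^ m + 1 := by simpa using hm.nat_add_dvd_pow_add_pow Q 1
  have hodd : p % 2 = 1 := Nat.odd_iff.1 (hp.odd_of_ne_two hp2)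
  have h2 : (Q + 1) ∣ 2 * (p ^ α * (Q ^ m - 1)) := by
    rw [← hQm]
    refine Dvd.dvd.trans ?_ hdvd
    rw [show Q ^ 2 - 1 = (Q + 1) * (Q - 1) by rw [← Nat.sq_sub_sq Q 1, one_pow]]
    exact Dvd.intro _ (by ring : (Q + 1) * (Q * (Q - 1)) = Q * ((Q + 1) * (Q - 1)))
  have hcop : Nat.Coprime (Q + 1) (p ^ α) := by
    refine Nat.Coprime.pow_right α (Nat.Coprime.symm ?_)
    rw [hp.coprime_iff_not_dvd]
    intro hd
    have hpQ : p ∣ Q := dvd_pow_self p (fun e => by
      rw [hQ, e, pow_zero] at hβ; omega)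
    have := (Nat.dvd_add_right hpQ).1 hd
    exact hp.one_lt.ne' (Nat.dvd_one.1 this)
  have h3 : Q + 1 ∣ 2 * (Q ^ m - 1) := by
    refine hcop.dvd_of_dvd_mul_left ?_
    rwa [show p ^ α * (2 * (Q ^ m - 1)) = 2 * (p ^ α * (Q ^ m - 1)) by ring]
  have h4 : Q + 1 ∣ 2 * (Q ^ m + 1) := h1.mul_left 2
  have h5 := Nat.dvd_sub h4 h3
  have hQ1 : 1 ≤ Q ^ m := Nat.one_le_pow _ _ (by omega)
  rw [show 2 * (Q ^ m + 1) - 2 * (Q ^ m - 1) = 4 by omega] at h5
  have := Nat.le_of_dvd (by norm_num) h5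
  omega

/-- The subgroups of `PGL₂(q)` without solvable normal subgroups. -/
theorem pgl_list (p α : ℕ) [Fact p.Prime] [CharP F p] (hp : p ≠ 2) (hF : Fintype.card F = p ^ α)
    {X : Type*} [Group X] (hsol : ¬ Group.IsSolvable X)
    (hrad : ∀ N : Subgroup X, N.Normal → Group.IsSolvable N → N = ⊥)
    (f : X →* Matrix.ProjGenLinGroup (Fin 2) F) (hf : Function.Injective f) : Cases p α X := by
  classical
  haveI : Finite (Matrix.ProjGenLinGroup (Fin 2) F) := inferInstance
  have hp' := (Fact.out : p.Prime)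
  have hodd : Fintype.card F % 2 = 1 := by
    rw [hF, Nat.pow_mod, Nat.odd_iff.1 (hp'.odd_of_ne_two hp)]; simp
  have e : X ≃* f.range := MonoidHom.ofInjective hf
  have hcard : Nat.card X ∣ p ^ α * ((p ^ α) ^ 2 - 1) := by
    rw [Nat.card_congr e.toEquiv, ← hF, ← Dickson.card_PGL_two_eq]
    exact Subgroup.card_subgroup_dvd_card _
  rcases Dickson.pgl_subgroup_cases p hodd f.range with ⟨k, -, hc⟩ | ⟨R, hR, hRp, hR1⟩ | hc
  · exfalso
    refine hsol (Dickson.isSolvable_congr e ?_)
    rcases hc with ⟨hcy, -⟩ | ⟨⟨d⟩⟩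
    · letI := hcy.commGroup
      exact Dickson.isSolvable_comm
    · exact Dickson.isSolvable_congr d (Dickson.isSolvable_dihedral k)
  · exfalso
    haveI := hR
    haveI : Group.IsSolvable R := by haveI := hRp.isNilpotent; infer_instance
    refine hR1 ?_
    have h := hrad (R.comap e.toMonoidHom) inferInstance
      (Group.isSolvable_of_isSolvable_injective (f := e.toMonoidHom.subgroupComap R)
        (fun a b h => Subtype.ext (e.injective (congrArg Subtype.val h))))
    rw [← Subgroup.map_comap_eq_self_of_surjective (f := e.toMonoidHom) e.surjective R, h, Subgroup.map_bot]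
  rcases hc with ⟨⟨d⟩⟩ | ⟨⟨d⟩⟩ | ⟨⟨d⟩⟩ | ⟨K, _, _, m, hK, h3, hKm, hd⟩
  · exact absurd (Dickson.isSolvable_congr (e.trans d) Dickson.isSolvable_alternating_four) hsol
  · exact absurd (Dickson.isSolvable_congr (e.trans d) Dickson.isSolvable_perm_four) hsol
  · haveI h5 : Fact (Nat.Prime 5) := ⟨by norm_num⟩
    obtain ⟨g⟩ := Cfsg.Agent.S0253.result (F := ZMod 5) (ZMod.card 5)
    have hX : Nonempty (X ≃* Matrix.ProjectiveSpecialLinearGroup (Fin 2) (ZMod 5)) := ⟨(e.trans d).trans g.symm⟩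
    by_cases hp5 : p = 5
    · subst hp5
      exact Or.inr <| Or.inr <| Or.inr <| Or.inr <| Or.inl
        ⟨ZMod 5, inferInstance, inferInstance, 1, by simp, one_dvd _, by norm_num, Or.inl hX⟩
    · refine Or.inr <| Or.inr <| Or.inr <| Or.inr <| Or.inr <| Or.inl
        ⟨?_, ZMod 5, inferInstance, inferInstance, by simp, hX⟩
      have h5X : 5 ∣ Nat.card X := by
        rw [Nat.card_congr (e.trans d).toEquiv, Nat.card_eq_fintype_card,
          show Fintype.card (alternatingGroup (Fin 5)) = 60 by decide]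
        norm_num
      have h5q := h5X.trans hcard
      have hq5 : (p ^ α) % 5 ≠ 0 := fun h => hp5 (by
        have := (Nat.prime_five).dvd_of_dvd_pow (Nat.dvd_of_mod_eq_zero h)
        exact ((Nat.prime_dvd_prime_iff_eq Nat.prime_five hp').1 this).symm)
      have hsq : ((p ^ α) ^ 2) % 5 = 1 := by
        have h5' : 5 ∣ (p ^ α) ^ 2 - 1 := (Nat.prime_five.dvd_mul.1 h5q).resolve_left
          (fun h => hq5 (Nat.mod_eq_zero_of_dvd h))
        have h1 : 1 ≤ (p ^ α) ^ 2 := Nat.one_le_pow _ _ (pow_pos hp'.pos _)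
        have := ((Nat.modEq_iff_dvd' h1).2 h5').symm
        exact this
      rw [hF] at hodd
      have hlt := Nat.mod_lt (p ^ α) (show 10 > 0 by norm_num)
      rw [Nat.pow_mod, show p ^ α % 5 = (p ^ α % 10) % 5 by omega] at hsq
      rw [show p ^ α % 2 = (p ^ α % 10) % 2 by omega] at hodd
      rw [show p ^ α % 5 = (p ^ α % 10) % 5 by omega] at hq5
      generalize p ^ α % 10 = r at *
      interval_cases r <;> simp_all
  · obtain ⟨β, hβ⟩ : ∃ β, Fintype.card K = p ^ β := by
      obtain ⟨n, -, hn⟩ := FiniteField.card K p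
      exact ⟨n, hn⟩
    by_cases hK3 : Fintype.card K = 3
    · exfalso
      have hs : Group.IsSolvable (Matrix.ProjectiveSpecialLinearGroup (Fin 2) K) :=
        Dickson.isSolvable_psl_two_three hK3
      rcases hd with ⟨⟨d⟩, -⟩ | ⟨⟨d⟩⟩
      · exact hsol (Dickson.isSolvable_congr (e.trans d) hs)
      · exact hsol (Dickson.isSolvable_congr (e.trans d) (isSolvable_pgl_three hK3))
    have h4 : 4 ≤ p ^ β := by rw [← hβ]; omega
    rw [hβ, hF] at hKm
    refine Or.inr <| Or.inr <| Or.inr <| Or.inr <| Or.inl ⟨K, inferInstance, inferInstance, β, hβ, ?_,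
      by omega, ?_⟩
    · refine arith_quad hp' hp h4 hKm ?_
      rcases hd with ⟨⟨d⟩, ho⟩ | ⟨⟨d⟩⟩
      · have h := Cfsg.Lib.Linear.Two.card_PSL_two (F := K)
        rw [Nat.gcd_eq_left (by omega : 2 ∣ Fintype.card K - 1), ← Nat.card_congr (e.trans d).toEquiv, hβ] at h
        rw [← h]
        exact Nat.mul_dvd_mul_left 2 hcard
      · have h := Dickson.card_PGL_two_eq (K := K)
        rw [← Nat.card_congr (e.trans d).toEquiv, hβ] at h
        rw [← h]
        exact hcard.trans (Dvd.intro_left _ rfl)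
    · rcases hd with ⟨⟨d⟩, -⟩ | ⟨⟨d⟩⟩
      · exact Or.inl ⟨e.trans d⟩
      · exact Or.inr ⟨e.trans d⟩

/-- Groups normalising the core of a form. -/
theorem quad_cases (p α : ℕ) [Fact p.Prime] [CharP F p] (hp : p ≠ 2) (hF : Fintype.card F = p ^ α)
    (h2 : (2 : F) ≠ 0) {G P : Subgroup (GL (Fin 3) F)} (hSL : G ≤ specialLinear (Fin 3) F)
    (hG : RadFree G) (hne : ¬ G ≤ scalars (Fin 3) F) (habs : ActsAbsolutelyIrreducibly (matrixSet P))
    (hn : ∀ g ∈ G, ∀ x ∈ P, g * x * g⁻¹ ∈ P) {Q : (Fin 3 → F) → F}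
    (hQ : IsNondegenerateQuadraticForm Q) (hfix : FixesQuadForm (matrixSet P) Q) :
    Cases p α (PBar G) := by
  classical
  obtain ⟨θ⟩ := exists_pgl_so h2 hQ
  have hs := Asch.isSesq_of_bilinear hQ.polar_bilinear hQ.nondegenerate
  set O := isom (QuadraticMap.polar Q) ⊓ specialLinear (Fin 3) F with hO
  have hle : ∀ g ∈ G, ∃ o ∈ O, ∃ s ∈ scalars (Fin 3) F, g = o * s := by
    intro g hg
    haveI : (scalars (Fin 3) F).Normal :=
      ⟨fun n hn g => by rw [scalars_comm' hn g, mul_inv_cancel_right]; exact hn⟩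
    have h := similarity_le_sup hs (fun v w => QuadraticMap.polar_comm _ v w)
      ⟨Asch.mem_similarityGroup habs hs (Asch.fixesForm_polar hfix) (hn g hg), hSL hg⟩
    rw [← SetLike.mem_coe, Subgroup.mul_normal, Set.mem_mul] at h
    obtain ⟨o, ho, s, hs', e⟩ := h
    exact ⟨o, ho, s, hs', e.symm⟩
  have hone : ∀ o ∈ O, o ∈ scalars (Fin 3) F → o = 1 := by
    rintro o ⟨ho, hsl⟩ hsc
    obtain ⟨c, -, hc⟩ := exists_scalar hsc
    have hd := det_val_eq_one hsl
    rw [hc, Matrix.det_smul, Matrix.det_one, mul_one, Fintype.card_fin] at hd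
    obtain ⟨x, hx⟩ := hs.nondeg (ev 0) (fun e => by simpa [ev] using congrFun e 0)
    have h1 : QuadraticMap.polar Q (o.val *ᵥ x) (o.val *ᵥ ev 0) = _ := ho x (ev 0)
    rw [hc, Matrix.smul_mulVec, Matrix.one_mulVec, Matrix.smul_mulVec, Matrix.one_mulVec, hs.smul_left,
      hs.smul_right, ← mul_assoc] at h1
    have h2' : c * c = 1 := (mul_eq_right₀ hx).1 h1
    exact Units.ext (by rw [hc, show c = 1 by linear_combination hd - c * h2', one_smul, Units.val_one])
  choose o ho s hs' hgo using hle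
  have huniq : ∀ (g : GL (Fin 3) F) (hg : g ∈ G) (o' : GL (Fin 3) F), o' ∈ O →
      o'⁻¹ * g ∈ scalars (Fin 3) F → o' = o g hg := by
    intro g hg o' ho' h
    have h1 : o'⁻¹ * o g hg ∈ scalars (Fin 3) F := by
      have e : o g hg = g * (s g hg)⁻¹ := by rw [eq_mul_inv_iff_mul_eq]; exact (hgo g hg).symm
      rw [e, ← mul_assoc]
      exact mul_mem h (inv_mem (hs' g hg))
    exact inv_mul_eq_one.1 (hone _ (mul_mem (inv_mem ho') (ho g hg)) h1)
  let π : G →* O :=
    { toFun := fun g => ⟨o g g.2, ho g g.2⟩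
      map_one' := Subtype.ext (huniq 1 (1 : G).2 1 (one_mem _) (by simp)).symm
      map_mul' := fun a b => Subtype.ext (by
        refine (huniq (a * b : G) (a * b).2 _ (mul_mem (ho a a.2) (ho b b.2)) ?_).symm
        have e : (o a a.2 * o b b.2)⁻¹ * ((a * b : G) : GL (Fin 3) F) = s a a.2 * s b b.2 := by
          rw [Subgroup.coe_mul]
          refine (congrArg (fun z => (o a a.2 * o b b.2)⁻¹ * z)
            (congrArg₂ (· * ·) (hgo a a.2) (hgo b b.2))).trans ?_
          beta_reduce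
          rw [mul_inv_rev, mul_assoc (o a a.2) (s a a.2), ← mul_assoc (s a a.2) (o b b.2),
            ← scalars_comm' (hs' a a.2) (o b b.2)]
          simp only [mul_assoc, inv_mul_cancel_left]
        rw [e]
        exact mul_mem (hs' a a.2) (hs' b b.2)) }
  have hπ : π.ker = (scalars (Fin 3) F).subgroupOf G := by
    ext g
    rw [MonoidHom.mem_ker, Subgroup.mem_subgroupOf, Subtype.ext_iff]
    show o g g.2 = 1 ↔ _
    constructor
    · intro h
      rw [hgo g g.2, h, one_mul]
      exact hs' g g.2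
    · intro h
      exact (huniq g g.2 1 (one_mem _) (by rwa [inv_one, one_mul])).symm
  exact pgl_list p α hp hF (hG.bar_not_solvable hne) (fun N hN hs => hG.bar_radFree hN hs)
    (θ.symm.toMonoidHom.comp (QuotientGroup.lift _ π (le_of_eq hπ.symm)))
    (θ.symm.injective.comp (lift_injective hπ.symm))

end Cfsg.Lib.Linear.Mitchell.Sub3
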