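import Cfsg.Agent.Lib.Linear.Mitchell.Sub3.Basic

/-!
# The socle of a group modulo scalars

A normal subgroup with scalar centraliser gives a copy of its quotient inside the group modulo
scalars on which the group acts faithfully by conjugation.
-/

set_option autoImplicit false

namespace Cfsg.Lib.Linear.Mitchell.Sub3

open Cfsg.Geo
open scoped Matrix MatrixGroups

variable {F : Type*} [Field F] {G : Subgroup (GL (Fin 3) F)}

/-- The image of a normal subgroup with scalar centraliser, with the conjugation action. -/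
theorem exists_socle {P : Subgroup (GL (Fin 3) F)} (hPG : P ≤ G)
    (hn : ∀ g ∈ G, ∀ x ∈ P, g * x * g⁻¹ ∈ P)
    (hcent : ∀ h ∈ G, (∀ x ∈ P, h * x * h⁻¹ * x⁻¹ ∈ scalars (Fin 3) F) → h ∈ scalars (Fin 3) F)
    {A : Type*} [Group A] (e : PBar P ≃* A) :
    ∃ (ι : A →* PBar G) (Φ : PBar G →* MulAut A), Function.Injective ι ∧ Function.Injective Φ ∧
      ∀ κ x, ι (Φ κ x) = κ * ι x * κ⁻¹ := by
  let m : PBar P →* PBar G := QuotientGroup.map _ _ (Subgroup.inclusion hPG) (fun x hx => by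
    rw [Subgroup.mem_comap, Subgroup.mem_subgroupOf]
    exact Subgroup.mem_subgroupOf.1 hx)
  have hm : ∀ x : P, m (toBar P x) = toBar G ⟨x.1, hPG x.2⟩ := fun x => rfl
  have hminj : Function.Injective m := by
    rw [injective_iff_map_eq_one]
    intro z hz
    obtain ⟨x, rfl⟩ := toBar_surjective P z
    rw [hm, toBar_eq_one] at hz
    exact toBar_eq_one.2 hz
  let ι : A →* PBar G := m.comp e.symm.toMonoidHom
  have hι : Function.Injective ι := hminj.comp e.symm.injective
  have hιx : ∀ x : P, ι (e (toBar P x)) = toBar G ⟨x.1, hPG x.2⟩ := fun x => by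
    rw [← hm x]
    exact congrArg m (e.symm_apply_apply _)
  haveI hN : ι.range.Normal := ⟨by
    rintro _ ⟨a, rfl⟩ κ
    obtain ⟨g, rfl⟩ := toBar_surjective G κ
    obtain ⟨x, hx⟩ := toBar_surjective P (e.symm a)
    refine ⟨e (toBar P ⟨g * x * (g : GL (Fin 3) F)⁻¹, hn g g.2 x x.2⟩), ?_⟩
    rw [hιx, show ι a = m (e.symm a) from rfl, ← hx, hm, ← map_inv, ← map_mul, ← map_mul]
    rfl⟩
  let r : A ≃* ι.range := MonoidHom.ofInjective hι
  let Φ : PBar G →* MulAut A :=
    MonoidHom.mk' (fun κ => r.trans ((MulAut.conjNormal κ).trans r.symm)) (fun κ μ => MulEquiv.ext fun x => by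
      show r.symm _ = r.symm (MulAut.conjNormal κ (r (r.symm _)))
      rw [r.apply_symm_apply, map_mul]
      rfl)
  have hΦ : ∀ κ x, ι (Φ κ x) = κ * ι x * κ⁻¹ := fun κ x => by
    have h : (r (Φ κ x) : PBar G) = MulAut.conjNormal κ (r x) :=
      congrArg Subtype.val (r.apply_symm_apply _)
    rw [MulAut.conjNormal_apply] at h
    exact h
  refine ⟨ι, Φ, hι, ?_, hΦ⟩
  rw [injective_iff_map_eq_one]
  intro κ hκ
  obtain ⟨g, rfl⟩ := toBar_surjective G κ
  refine toBar_eq_one.2 (hcent g g.2 fun x hx => ?_)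
  have h := hΦ (toBar G g) (e (toBar P ⟨x, hx⟩))
  rw [hκ, MulAut.one_apply, hιx, ← map_inv, ← map_mul, ← map_mul, eq_comm] at h
  obtain ⟨s, hs, he⟩ := toBar_eq_iff.1 h
  simp only [Subgroup.coe_mul, Subgroup.coe_inv] at he
  rw [he, mul_inv_cancel_right]
  exact hs

/-- An element of the image acts by conjugation. -/
theorem socle_conj {A : Type*} [Group A] {X : Type*} [Group X] {ι : A →* X} {Φ : X →* MulAut A}
    (hι : Function.Injective ι) (hΦ : ∀ κ x, ι (Φ κ x) = κ * ι x * κ⁻¹) (q x : A) :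
    Φ (ι q) x = q * x * q⁻¹ :=
  hι (by rw [hΦ, map_mul, map_mul, map_inv])

/-- Lifts of inverted elements of order three have order three. -/
theorem cube_lift (hSL : G ≤ specialLinear (Fin 3) F) {x : G} {κ : PBar G}
    (h3 : toBar G x ^ 3 = 1) (hκ : κ * toBar G x * κ⁻¹ = (toBar G x)⁻¹) :
    (x : GL (Fin 3) F) ^ 3 = 1 := by
  obtain ⟨k, rfl⟩ := toBar_surjective G κ
  rw [← map_pow] at h3
  have ht : (x : GL (Fin 3) F) ^ 3 ∈ scalars (Fin 3) F := by simpa using toBar_eq_one.1 h3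
  rw [← map_inv, ← map_mul, ← map_mul, ← map_inv] at hκ
  obtain ⟨s, hs, he⟩ := toBar_eq_iff.1 hκ
  simp only [Subgroup.coe_mul, Subgroup.coe_inv] at he
  have hsl : s ∈ specialLinear (Fin 3) F := by
    rw [show s = k * x * (k : GL (Fin 3) F)⁻¹ * x by rw [he, inv_mul_cancel_right]]
    exact mul_mem (mul_mem (mul_mem (hSL k.2) (hSL x.2)) (inv_mem (hSL k.2))) (hSL x.2)
  have h1 := congrArg (· ^ 3) he
  simp only [conj_pow, (show Commute s (x : GL (Fin 3) F)⁻¹ from (scalars_comm' hs _).symm).mul_pow,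
    scalar_cube hs hsl, one_mul, inv_pow, scalars_comm' ht, mul_inv_cancel_right] at h1
  have h2 : ((x : GL (Fin 3) F) ^ 3) ^ 2 = 1 := by rw [pow_two]; exact mul_eq_one_iff_eq_inv.2 h1
  have h6 := scalar_cube ht (pow_mem (hSL x.2) 3)
  rw [pow_succ, h2, one_mul] at h6
  exact h6

end Cfsg.Lib.Linear.Mitchell.Sub3
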