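import Cfsg.Agent.Lib.Linear.Mitchell.Sub3.Small
import Cfsg.Agent.Lib.Linear.Mitchell.Sub3.Socle
import Cfsg.Agent.Lib.Linear.Mitchell.Sub3.FiniteFacts

/-!
# Groups with socle `L₃(2)`

An element of order seven of the socle is conjugate to its square but not to its inverse, so the
normaliser of its group induces on it only what the socle does; with the seven involutions completing it
to a generating pair this shows that the group is its socle.
-/

set_option autoImplicit false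

namespace Cfsg.Lib.Linear.Mitchell.Sub3

open Cfsg.Geo
open scoped Matrix MatrixGroups

variable {F : Type*} [Field F] [Fintype F] {G : Subgroup (GL (Fin 3) F)}

local notation "M2" => Matrix.SpecialLinearGroup (Fin 3) (ZMod 2)

/-- The fixed points of an automorphism fixing both generators are everything. -/
theorem m32_fix (φ : MulAut M2) (hg : φ g32 = g32) (hu : φ u32 = u32) : φ = 1 := by
  refine MulEquiv.ext fun x => ?_
  obtain ⟨i, l, j, k, rfl⟩ := m32_gen x
  simp only [map_mul, map_pow, hg, hu, MulAut.one_apply]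

/-- A group with socle `L₃(2)` is its socle, and `q³ ≡ 1 (mod 7)`. -/
theorem seven_socle (p : ℕ) [Fact p.Prime] [CharP F p] (hp7 : p ≠ 7)
    (hSL : G ≤ specialLinear (Fin 3) F)
    (hZ : ∀ s ∈ scalars (Fin 3) F, s ∈ specialLinear (Fin 3) F → s ∈ G)
    {ι : M2 →* PBar G} {Φ : PBar G →* MulAut M2} (hι : Function.Injective ι)
    (hΦi : Function.Injective Φ) (hΦ : ∀ κ x, ι (Φ κ x) = κ * ι x * κ⁻¹) :
    Function.Surjective ι ∧ Fintype.card F ^ 3 % 7 = 1 := by
  obtain ⟨hg7, hg1, hu2, hu1, hug, htg⟩ := m32_facts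
  have hcop : Nat.Coprime 7 3 := by norm_num
  obtain ⟨x, hx, hx7⟩ := exists_lift hSL hZ hcop (τ := ι g32) (by rw [← map_pow, hg7, map_one])
  have hxne : (x : GL (Fin 3) F) ≠ 1 := fun h => hg1 (hι (by
    rw [← hx, show x = 1 from Subtype.ext h, map_one, map_one]))
  have htr : ∀ κ (i : ℕ), Φ κ g32 = g32 ^ i →
      ((x : GL (Fin 3) F) ^ i).val.trace = (x : GL (Fin 3) F).val.trace := by
    intro κ i h
    obtain ⟨k, -, hk⟩ := conj_lift hSL hcop hx7 (y := x ^ i) (κ := κ)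
      (by rw [Subgroup.coe_pow, ← pow_mul, mul_comm, pow_mul, hx7, one_pow])
      (by rw [hx, map_pow, hx, ← hΦ, h, map_pow])
    rw [← Subgroup.coe_pow, ← hk, trace_conj_eq]
  have ht : Φ (ι t32) g32 = g32 ^ 2 := by rw [socle_conj hι hΦ, htg]
  have h2 : ((x : GL (Fin 3) F) * x).val.trace = (x : GL (Fin 3) F).val.trace := by
    rw [← pow_two]; exact htr _ 2 ht
  obtain ⟨hinv, hq⟩ := seven_cases p hp7 (det_val_eq_one (hSL x.2)) hx7 hxne h2
  refine ⟨fun κ => ?_, hq⟩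
  have h6 : ∀ μ, Φ μ g32 ≠ g32 ^ 6 := fun μ h => hinv (by
    rw [inv_eq_of_mul_eq_one_right (show (x : GL (Fin 3) F) * x ^ 6 = 1 by rw [← pow_succ', hx7])]
    exact htr μ 6 h)
  have hmod : ∀ n : ℕ, g32 ^ n = g32 ^ (n % 7) := fun n => by
    conv_lhs => rw [← Nat.div_add_mod n 7, pow_add, pow_mul, hg7, one_pow, one_mul]
  -- the image of the Sylow subgroup
  haveI h7 : Fact (Nat.Prime 7) := ⟨by norm_num⟩
  have hcard : Nat.card (Subgroup.zpowers g32) = 7 := by
    rw [Nat.card_zpowers, orderOf_eq_prime hg7 hg1]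
  have hi : ¬ 7 ∣ (Subgroup.zpowers g32).index := by
    have := (Subgroup.zpowers g32).card_mul_index
    rw [hcard, Nat.card_eq_fintype_card, m32_card] at this
    omega
  have hp : IsPGroup 7 (Subgroup.zpowers g32) := IsPGroup.of_card (n := 1) hcard
  have hi' : ¬ 7 ∣ ((Subgroup.zpowers g32).map (Φ κ).toMonoidHom).index := by
    rwa [Subgroup.index_map_of_bijective (Φ κ).bijective]
  obtain ⟨q, hq'⟩ := MulAction.exists_smul_eq M2 ((hp.map (Φ κ).toMonoidHom).toSylow hi') (hp.toSylow hi)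
  obtain ⟨i, hi7, hgi⟩ : ∃ i : ℕ, i < 7 ∧ Φ (ι q * κ) g32 = g32 ^ i := by
    have h0 : Φ κ g32 ∈ ((hp.map (Φ κ).toMonoidHom).toSylow hi' : Subgroup M2) :=
      Subgroup.mem_map_of_mem _ (Subgroup.mem_zpowers g32)
    have h1 := Subgroup.smul_mem_pointwise_smul (Φ κ g32) (MulAut.conj q) _ h0
    rw [← Sylow.coe_subgroup_smul, hq'] at h1
    obtain ⟨n, hn⟩ := (mem_powers_iff_mem_zpowers).2 h1
    refine ⟨n % 7, Nat.mod_lt _ (by norm_num), ?_⟩
    rw [map_mul, MulAut.mul_apply, socle_conj hι hΦ, ← hmod]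
    exact hn.symm
  -- powers of the socle element `t`
  have htp : ∀ s : ℕ, Φ (ι t32 ^ s) g32 = g32 ^ 2 ^ s := by
    intro s
    induction s with
    | zero => simp
    | succ s ih => rw [pow_succ, map_mul, MulAut.mul_apply, ht, map_pow _ g32, ih, ← pow_mul, pow_succ]
  obtain ⟨s, hs⟩ : ∃ s : ℕ, (i * 2 ^ s) % 7 = 1 := by
    have hi0 : i ≠ 0 := fun h0 => hg1 ((Φ (ι q * κ)).injective (by rw [hgi, h0, pow_zero, map_one]))
    have hn : ∀ s : ℕ, (i * 2 ^ s) % 7 ≠ 6 := fun s h => h6 (ι t32 ^ s * (ι q * κ)) (by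
      rw [map_mul, MulAut.mul_apply, hgi, map_pow _ g32, htp, ← pow_mul, mul_comm, hmod, h])
    have a0 : i % 7 ≠ 6 := by simpa using hn 0
    have a1 : i * 2 % 7 ≠ 6 := hn 1
    have a2 : i * 4 % 7 ≠ 6 := hn 2
    rcases (show i = 1 ∨ i = 2 ∨ i = 4 by interval_cases i <;> omega) with rfl | rfl | rfl
    · exact ⟨0, rfl⟩
    · exact ⟨2, rfl⟩
    · exact ⟨1, rfl⟩
  set μ := ι t32 ^ s * (ι q * κ) with hμ
  have hμg : Φ μ g32 = g32 := by
    rw [hμ, map_mul, MulAut.mul_apply, hgi, map_pow _ g32, htp, ← pow_mul, mul_comm, hmod, hs, pow_one]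
  obtain ⟨m, hm⟩ := m32_invol (Φ μ u32) (by rw [← map_mul, hu2, map_one])
    (fun h => hu1 ((Φ μ).injective (by rw [h, map_one])))
    (by conv_lhs => rw [← hμg, ← map_mul, ← map_pow, hug, map_one])
  have h1 : Φ (ι (g32 ^ (m : ℕ))⁻¹ * μ) = 1 := by
    refine m32_fix _ ?_ ?_
    · rw [map_mul, MulAut.mul_apply, hμg, socle_conj hι hΦ, inv_inv,
        (show Commute (g32 ^ (m : ℕ))⁻¹ g32 from ((Commute.refl g32).pow_left _).inv_left).eq,
        inv_mul_cancel_right]
    · rw [map_mul, MulAut.mul_apply, hm, socle_conj hι hΦ]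
      group
  rw [← map_one Φ] at h1
  have h2 := hΦi h1
  rw [hμ, ← map_pow] at h2
  refine ⟨((g32 ^ (m : ℕ))⁻¹ * (t32 ^ s * q))⁻¹, ?_⟩
  rw [map_inv, inv_eq_of_mul_eq_one_right]
  rw [map_mul, map_mul]
  rw [← h2]
  simp only [mul_assoc]

end Cfsg.Lib.Linear.Mitchell.Sub3
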