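import Cfsg.Agent.Lib.Linear.Mitchell.Sub3.Nine
import Cfsg.Agent.Lib.Linear.Mitchell.Sub3.Seven
import Cfsg.Agent.Lib.Linear.Mitchell.Sub3.Target
import Cfsg.Agent.Lib.Linear.Mitchell.MaxAut
import Cfsg.Agent.S0495

/-!
# The socles `L₃(2)`, `A₆` and `A₇`

Such a group is its socle, except that `A₆` in characteristic five may have index two.
-/

set_option autoImplicit false

namespace Cfsg.Lib.Linear.Mitchell.Sub3

open Cfsg.Geo
open scoped Matrix MatrixGroups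

variable {F : Type*} [Field F] [Fintype F] {G : Subgroup (GL (Fin 3) F)}

/-- `κ` maps the pair to the other orbit. -/
def Swaps {A : Type*} [Group A] (D : NineData A) (φ : MulAut A) : Prop :=
  ∃ q, φ D.a = q * (D.a * D.b) * q⁻¹ ∧ φ D.b = q * (D.a * D.b⁻¹) * q⁻¹

theorem Swaps.not_cls {A : Type*} [Group A] {D : NineData A} {φ : MulAut A} (h : Swaps D φ) :
    ¬ D.cls (φ D.a) := by
  obtain ⟨q, hq, -⟩ := h
  rw [hq, D.cls_conj]
  exact D.not_cls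

set_option synthInstance.maxSize 4000 in
set_option synthInstance.maxHeartbeats 400000 in
theorem nine_comb : ∀ v w : Fin 3 × Fin 3, v ≠ 0 → w ≠ 0 →
    ((v.1 = 0 ∨ v.2 = 0) ↔ (w.1 = 0 ∨ w.2 = 0)) → v.1 * w.2 = 1 + v.2 * w.1 → ∃ i : Fin 4,
      (NineData.J^[(i : ℕ)] v = (1, 0) ∧ NineData.J^[(i : ℕ)] w = (0, 1)) ∨
      (NineData.J^[(i : ℕ)] v = (1, 1) ∧ NineData.J^[(i : ℕ)] w = (1, 2)) := by
  decide +kernel

/-- An element lies in the socle or swaps the orbits. -/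
theorem nine_dichotomy {A : Type*} [Group A] [Finite A] (h3 : (3 : F) ≠ 0)
    (hSL : G ≤ specialLinear (Fin 3) F) (D : NineData A) {ι : A →* PBar G} {Φ : PBar G →* MulAut A}
    (hι : Function.Injective ι) (hΦ : ∀ κ x, ι (Φ κ x) = κ * ι x * κ⁻¹) {c : F}
    (H : Heis G (ι D.a) (ι D.b) c) (κ : PBar G) : κ ∈ ι.range ∨ Swaps D (Φ κ) := by
  obtain ⟨q, v, w, hv, hw⟩ := D.exists_normalise (Φ κ)
  set μ := ι q * κ with hμ
  have hva : Φ μ D.a = D.pw v := by rw [hμ, map_mul, MulAut.mul_apply, socle_conj hι hΦ, hv]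
  have hwb : Φ μ D.b = D.pw w := by rw [hμ, map_mul, MulAut.mul_apply, socle_conj hι hΦ, hw]
  have hdet := H.det_rule h3 (κ := μ) (α := v.1) (β := v.2) (γ := w.1) (δ := w.2)
    (by rw [← hΦ, hva, NineData.pw, map_mul, map_pow, map_pow])
    (by rw [← hΦ, hwb, NineData.pw, map_mul, map_pow, map_pow])
  have hne : ∀ z : A, z ≠ 1 → ∀ u, Φ μ z = D.pw u → u ≠ 0 := fun z hz u hu h0 =>
    hz ((Φ μ).injective (by rw [hu, h0, D.pw_zero, map_one]))
  have hv0 : v ≠ 0 := hne _ (fun h => by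
    have := D.indep 1 0 (by norm_num) (by norm_num) (by simp [h])
    omega) _ hva
  have hw0 : w ≠ 0 := hne _ (fun h => by
    have := D.indep 0 1 (by norm_num) (by norm_num) (by simp [h])
    omega) _ hwb
  have hc : D.cls (D.pw v) ↔ D.cls (D.pw w) := by
    rw [← hwb, ← D.ja, map_mul, map_mul, map_inv, D.cls_conj, hva]
  rw [D.pw_cls hv0, D.pw_cls hw0] at hc
  have hd : v.1 * w.2 = 1 + v.2 * w.1 := by
    refine Fin.ext ?_
    simp only [Fin.val_mul, Fin.val_add, Fin.val_one, hdet]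
    omega
  obtain ⟨i, hi⟩ := nine_comb v w hv0 hw0 hc hd
  have hval : ∀ u z, Φ μ z = D.pw u → Φ (ι (D.j ^ (i : ℕ) * q) * κ) z = D.pw (NineData.J^[(i : ℕ)] u) := by
    intro u z hz
    rw [← D.pw_J_iterate, ← hz, map_mul ι, mul_assoc, ← hμ, map_mul Φ, MulAut.mul_apply,
      socle_conj hι hΦ]
  have hA := hval _ _ hva
  have hB := hval _ _ hwb
  set Q := D.j ^ (i : ℕ) * q with hQ
  rcases hi with ⟨e1, e2⟩ | ⟨e1, e2⟩
  · rw [e1, D.a_eq] at hA
    rw [e2, D.b_eq] at hB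
    left
    obtain ⟨l, n, h⟩ := H.fixed h3 hSL (κ := ι Q * κ)
      (by rw [← hΦ, hA]) (by rw [← hΦ, hB])
    refine ⟨(D.a ^ l * D.b ^ n * Q)⁻¹, ?_⟩
    rw [map_inv, inv_eq_of_mul_eq_one_right]
    rw [map_mul, map_mul, map_pow, map_pow, ← h]
    simp only [mul_assoc]
  · rw [e1, D.ab_eq, map_mul Φ, MulAut.mul_apply, socle_conj hι hΦ] at hA
    rw [e2, D.ab'_eq, map_mul Φ, MulAut.mul_apply, socle_conj hι hΦ] at hB
    exact Or.inr ⟨Q⁻¹, by rw [← hA]; group, by rw [← hB]; group⟩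

/-- The socle has index at most two. -/
theorem nine_index {A : Type*} [Group A] (D : NineData A) {ι : A →* PBar G} {Φ : PBar G →* MulAut A}
    (hdi : ∀ κ, κ ∈ ι.range ∨ Swaps D (Φ κ)) :
    Function.Surjective ι ∨ ι.range.index = 2 := by
  by_cases h : ∀ κ, κ ∈ ι.range
  · exact Or.inl h
  push_neg at h
  obtain ⟨κ₀, h₀⟩ := h
  refine Or.inr (Subgroup.index_eq_two_iff.2 ⟨κ₀, fun b => ?_⟩)
  by_cases hb : b ∈ ι.range
  · exact Or.inr ⟨hb, fun hm => h₀ ((Subgroup.mul_mem_cancel_left _ hb).1 hm)⟩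
  refine Or.inl ⟨(hdi _).resolve_right fun hs => hs.not_cls ?_, hb⟩
  obtain ⟨q₀, ha, -⟩ := (hdi κ₀).resolve_left h₀
  obtain ⟨q, hqa, hqb⟩ := (hdi b).resolve_left hb
  have hsq : D.a * D.b * (D.a * D.b⁻¹) = D.u * D.a * D.u⁻¹ := by
    rw [D.ua, mul_assoc, ← mul_assoc D.b, ← D.comm, mul_assoc D.a D.b, mul_inv_cancel, mul_one]
    exact eq_inv_of_mul_eq_one_left (by rw [← pow_three', D.a3])
  rw [map_mul Φ, MulAut.mul_apply, ha, map_mul, map_mul, map_inv, D.cls_conj, map_mul, hqa, hqb,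
    show q * (D.a * D.b) * q⁻¹ * (q * (D.a * D.b⁻¹) * q⁻¹) = q * (D.a * D.b * (D.a * D.b⁻¹)) * q⁻¹ by group,
    D.cls_conj, hsq, D.cls_conj]
  exact D.cls_a

theorem three_ne_zero' (p : ℕ) [Fact p.Prime] [CharP F p] (hp3 : p ≠ 3) : (3 : F) ≠ 0 := by
  simpa using natCast_ne_zero (F := F) p Nat.prime_three hp3

theorem even_of_three_dvd {α : ℕ} (h : 3 ∣ 5 ^ α - 1) : Even α := by
  by_contra hodd
  obtain ⟨t, rfl⟩ := Nat.not_even_iff_odd.1 hodd
  have h1 : 5 ^ (2 * t + 1) % 3 = 2 := by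
    rw [pow_succ, pow_mul, Nat.mul_mod, Nat.pow_mod]
    norm_num
  generalize 5 ^ (2 * t + 1) = x at h h1
  omega

/-- The socle `A₇`. -/
theorem alt_seven_cases (p α : ℕ) [Fact p.Prime] [CharP F p] (hp5 : p = 5) (hF : Fintype.card F = p ^ α)
    (hSL : G ≤ specialLinear (Fin 3) F) {P : Subgroup (GL (Fin 3) F)} (hPG : P ≤ G)
    (hn : ∀ g ∈ G, ∀ x ∈ P, g * x * g⁻¹ ∈ P)
    (hcent : ∀ h ∈ G, (∀ x ∈ P, h * x * h⁻¹ * x⁻¹ ∈ scalars (Fin 3) F) → h ∈ scalars (Fin 3) F)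
    (e : PBar P ≃* alternatingGroup (Fin 7)) : Cases p α (PBar G) := by
  have hp2 : p ≠ 2 := by omega
  have hp3 : p ≠ 3 := by omega
  obtain ⟨ι, Φ, hι, -, hΦ⟩ := exists_socle hPG hn hcent e
  obtain ⟨c, ⟨H⟩⟩ := exists_heis p hp2 hp3 hSL nineSeven hι
  have hsur : Function.Surjective ι := fun κ => by
    refine (nine_dichotomy (three_ne_zero' p hp3) hSL nineSeven hι hΦ H κ).elim id fun hs => ?_
    obtain ⟨q, hq, -⟩ := hs
    exfalso
    obtain ⟨v, hv2, hv1, hva⟩ := seven_invol_a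
    have hw := seven_invol_ab (q⁻¹ * Φ κ v * q)
      (by rw [show q⁻¹ * Φ κ v * q * (q⁻¹ * Φ κ v * q) = q⁻¹ * (Φ κ v * Φ κ v) * q by group, ← map_mul,
        hv2, map_one, mul_one, inv_mul_cancel])
      (by
        have h := congrArg (fun z => q⁻¹ * z * q) (congrArg (Φ κ) hva)
        simp only [map_mul, hq] at h
        calc q⁻¹ * Φ κ v * q * (nineSeven.a * nineSeven.b)
            = q⁻¹ * (Φ κ v * (q * (nineSeven.a * nineSeven.b) * q⁻¹)) * q := by group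
          _ = q⁻¹ * (q * (nineSeven.a * nineSeven.b) * q⁻¹ * Φ κ v) * q := h
          _ = _ := by group)
    refine hv1 ((Φ κ).injective ?_)
    rw [map_one]
    calc Φ κ v = q * (q⁻¹ * Φ κ v * q) * q⁻¹ := by group
      _ = 1 := by rw [hw, mul_one, mul_inv_cancel]
  refine Or.inr <| Or.inr <| Or.inr <| Or.inr <| Or.inr <| Or.inr <| Or.inr <| Or.inl
    ⟨hp5, ?_, Or.inr (Or.inl ⟨(MulEquiv.ofBijective ι ⟨hι, hsur⟩).symm⟩)⟩
  have h := H.three_dvd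
  rw [hF, hp5] at h
  exact even_of_three_dvd h

/-- The socle `A₆`. -/
theorem alt_six_cases (p α : ℕ) [Fact p.Prime] [CharP F p] (hp2 : p ≠ 2) (hp3 : p ≠ 3)
    (hF : Fintype.card F = p ^ α) (hSL : G ≤ specialLinear (Fin 3) F)
    (hZ : ∀ s ∈ scalars (Fin 3) F, s ∈ specialLinear (Fin 3) F → s ∈ G)
    {P : Subgroup (GL (Fin 3) F)} (hPG : P ≤ G)
    (hn : ∀ g ∈ G, ∀ x ∈ P, g * x * g⁻¹ ∈ P)
    (hcent : ∀ h ∈ G, (∀ x ∈ P, h * x * h⁻¹ * x⁻¹ ∈ scalars (Fin 3) F) → h ∈ scalars (Fin 3) F)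
    (e : PBar P ≃* alternatingGroup (Fin 6)) : Cases p α (PBar G) := by
  obtain ⟨ι, Φ, hι, -, hΦ⟩ := exists_socle hPG hn hcent e
  obtain ⟨c, ⟨H⟩⟩ := exists_heis p hp2 hp3 hSL nineSix hι
  have hdi := nine_dichotomy (three_ne_zero' p hp3) hSL nineSix hι hΦ H
  have h3q := H.three_dvd
  rw [hF] at h3q
  by_cases hp5 : p = 5
  · subst hp5
    refine Or.inr <| Or.inr <| Or.inr <| Or.inr <| Or.inr <| Or.inr <| Or.inr <| Or.inl
      ⟨rfl, even_of_three_dvd h3q, ?_⟩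
    rcases nine_index nineSix hdi with hsur | hidx
    · exact Or.inl ⟨(MulEquiv.ofBijective ι ⟨hι, hsur⟩).symm⟩
    · exact Or.inr (Or.inr ⟨ι.range, hidx, ⟨(MonoidHom.ofInjective hι).symm⟩⟩)
  obtain ⟨h5, hne, hga, hgb, r, hr⟩ := fiveSix_facts
  have hcop : Nat.Coprime 5 3 := by norm_num
  obtain ⟨x, hx, hx5⟩ := exists_lift hSL hZ hcop (τ := ι fiveSix) (by rw [← map_pow, h5, map_one])
  have hxne : (x : GL (Fin 3) F) ≠ 1 := fun h => hne (hι (by
    rw [← hx, show x = 1 from Subtype.ext h, map_one, map_one]))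
  have htr : ∀ κ (i : ℕ), Φ κ fiveSix = fiveSix ^ i →
      ((x : GL (Fin 3) F) ^ i).val.trace = (x : GL (Fin 3) F).val.trace := by
    intro κ i h
    obtain ⟨k, -, hk⟩ := conj_lift hSL hcop hx5 (y := x ^ i) (κ := κ)
      (by rw [Subgroup.coe_pow, ← pow_mul, mul_comm, pow_mul, hx5, one_pow])
      (by rw [hx, map_pow, hx, ← hΦ, h, map_pow])
    rw [← Subgroup.coe_pow, ← hk, trace_conj_eq]
  have hinv : (x : GL (Fin 3) F)⁻¹.val.trace = (x : GL (Fin 3) F).val.trace := by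
    rw [inv_eq_of_mul_eq_one_right (show (x : GL (Fin 3) F) * x ^ 4 = 1 by rw [← pow_succ', hx5])]
    refine htr (ι r) 4 ?_
    rw [socle_conj hι hΦ, hr, mul_inv_cancel_right]
    exact inv_eq_of_mul_eq_one_right (by rw [← pow_succ', h5])
  have hsur : Function.Surjective ι := fun κ => by
    refine (hdi κ).elim id fun ⟨q, hqa, hqb⟩ => ?_
    exfalso
    have hμa : Φ (ι q⁻¹ * κ) nineSix.a = nineSix.a * nineSix.b := by
      rw [map_mul Φ, MulAut.mul_apply, socle_conj hι hΦ, hqa]; group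
    have hμb : Φ (ι q⁻¹ * κ) nineSix.b = nineSix.a * nineSix.b⁻¹ := by
      rw [map_mul Φ, MulAut.mul_apply, socle_conj hι hΦ, hqb]; group
    set μ := ι q⁻¹ * κ with hμ
    obtain ⟨h, hh⟩ := fiveSix_swap (Φ μ fiveSix) (by rw [← map_pow, h5, map_one])
      (fun h => hne ((Φ μ).injective (by rw [h, map_one])))
      (by rw [← hμa, ← map_mul, ← map_pow, hga, map_one])
      (by rw [← hμb, ← map_mul, ← map_pow, hgb, map_one])
    refine not_traces p (Or.inl rfl) hp5 (det_val_eq_one (hSL x.2)) hx5 hxne ?_ hinv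
    rw [← pow_two]
    refine htr (ι h * μ) 2 ?_
    rw [map_mul Φ, MulAut.mul_apply, socle_conj hι hΦ, hh, mul_inv_cancel_right]
  refine Or.inr <| Or.inr <| Or.inr <| Or.inr <| Or.inr <| Or.inr <| Or.inr <| Or.inr
    ⟨?_, ⟨(MulEquiv.ofBijective ι ⟨hι, hsur⟩).symm⟩⟩
  have h5q := five_residue p hp5 hx5 hxne
  rw [hF] at h5q
  have hodd : p ^ α % 2 = 1 := Nat.odd_iff.1 (((Fact.out : p.Prime).odd_of_ne_two hp2).pow)
  omega

/-- The socle `L₃(2)`. -/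
theorem l32_cases (p α : ℕ) [Fact p.Prime] [CharP F p] (hp7 : p ≠ 7)
    (hF : Fintype.card F = p ^ α) (hSL : G ≤ specialLinear (Fin 3) F)
    (hZ : ∀ s ∈ scalars (Fin 3) F, s ∈ specialLinear (Fin 3) F → s ∈ G)
    {P : Subgroup (GL (Fin 3) F)} (hcore : Core P) (hPG : P ≤ G)
    (hn : ∀ g ∈ G, ∀ x ∈ P, g * x * g⁻¹ ∈ P)
    (hcent : ∀ h ∈ G, (∀ x ∈ P, h * x * h⁻¹ * x⁻¹ ∈ scalars (Fin 3) F) → h ∈ scalars (Fin 3) F)
    (e : PBar P ≃* Matrix.ProjectiveSpecialLinearGroup (Fin 3) (ZMod 2)) : Cases p α (PBar G) := by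
  haveI : Fact (Nat.Prime 7) := ⟨by norm_num⟩
  have hinj : Function.Injective (QuotientGroup.mk' (Subgroup.center
      (Matrix.SpecialLinearGroup (Fin 3) (ZMod 2)))) := by
    rw [injective_iff_map_eq_one]
    intro z hz
    have hc := Subgroup.mem_center_iff.1 ((QuotientGroup.eq_one_iff z).1 hz)
    exact m32_center z (hc g32).symm (hc u32).symm
  let m := MulEquiv.ofBijective _ ⟨hinj, QuotientGroup.mk'_surjective _⟩
  obtain ⟨ι, Φ, hι, hΦi, hΦ⟩ := exists_socle hPG hn hcent (e.trans m.symm)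
  obtain ⟨hsur, hq⟩ := seven_socle p hp7 hSL hZ hι hΦi hΦ
  rw [hF] at hq
  haveI : IsSimpleGroup (PBar P) := hcore.simple
  obtain ⟨f⟩ := Cfsg.Agent.S0495.result (G := PBar P) (by rw [Nat.card_congr e.toEquiv, Max.card_L32])
    (F := ZMod 7) (ZMod.card 7)
  exact Or.inr <| Or.inr <| Or.inr <| Or.inr <| Or.inr <| Or.inr <| Or.inl
    ⟨hq, ZMod 7, inferInstance, inferInstance, ZMod.card 7,
      ⟨((MulEquiv.ofBijective ι ⟨hι, hsur⟩).symm.trans (e.trans m.symm).symm).trans f⟩⟩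

end Cfsg.Lib.Linear.Mitchell.Sub3
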