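import Cfsg.Agent.Lib.Linear.Mitchell.Sub3.Irreducible
import Cfsg.Agent.Lib.Linear.Mitchell.Sub3.Transvection
import Cfsg.Agent.Lib.Linear.Mitchell.Sub3.Orth
import Cfsg.Agent.Lib.Linear.Mitchell.Sub3.SmallCases
import Cfsg.Agent.Lib.Linear.Mitchell.OddCore
import Cfsg.Agent.Lib.Core.PSolvable

/-!
# Subgroups of `PSL₃(q)`, `q` odd, without abelian normal subgroups
-/

set_option autoImplicit false

namespace Cfsg.Lib.Linear.Mitchell.Sub3

open Cfsg.Geo
open scoped Matrix MatrixGroups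

variable {F : Type*} [Field F] [Fintype F]

/-- The preimage in `GL₃` of a subgroup of `PSL₃`. -/
theorem exists_preimage (H : Subgroup (Matrix.ProjectiveSpecialLinearGroup (Fin 3) F)) :
    ∃ G : Subgroup (GL (Fin 3) F), G ≤ specialLinear (Fin 3) F ∧
      (∀ s ∈ scalars (Fin 3) F, s ∈ specialLinear (Fin 3) F → s ∈ G) ∧ Nonempty (PBar G ≃* H) := by
  set π := QuotientGroup.mk' (Subgroup.center (Matrix.SpecialLinearGroup (Fin 3) F)) with hπ
  set ι : Matrix.SpecialLinearGroup (Fin 3) F →* GL (Fin 3) F := Matrix.SpecialLinearGroup.toGL with hι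
  have hinj : Function.Injective ι := fun a b h => Subtype.ext (congrArg Units.val h)
  have hcen : ∀ z, z ∈ Subgroup.center (Matrix.SpecialLinearGroup (Fin 3) F) ↔ ι z ∈ scalars (Fin 3) F := by
    intro z
    rw [Matrix.SpecialLinearGroup.mem_center_iff]
    constructor
    · rintro ⟨r, -, hr⟩
      refine mem_scalars_of_val (c := r) ?_
      rw [Matrix.smul_one_eq_diagonal]
      exact hr.symm
    · intro h
      obtain ⟨r, -, hr⟩ := exists_scalar h
      have hr' : z.1 = Matrix.scalar (Fin 3) r := by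
        rw [Matrix.scalar_apply, ← Matrix.smul_one_eq_diagonal]
        exact hr
      refine ⟨r, ?_, hr'.symm⟩
      have h := congrArg Matrix.det hr'
      rw [z.2, Matrix.scalar_apply, Matrix.det_diagonal, Finset.prod_const] at h
      simpa using h.symm
  set G₀ := H.comap π
  refine ⟨G₀.map ι, ?_, ?_, ⟨?_⟩⟩
  · rintro _ ⟨x, -, rfl⟩
    exact MonoidHom.mem_ker.2 (Units.ext x.2)
  · intro s hs hsl
    refine ⟨⟨s.val, det_val_eq_one hsl⟩, ?_, Units.ext rfl⟩
    have hc : (⟨s.val, det_val_eq_one hsl⟩ : Matrix.SpecialLinearGroup (Fin 3) F) ∈ Subgroup.center (Matrix.SpecialLinearGroup (Fin 3) F) :=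
      (hcen _).2 (by rw [show ι ⟨s.val, det_val_eq_one hsl⟩ = s from Units.ext rfl]; exact hs)
    show π _ ∈ H
    rw [show π _ = 1 from (QuotientGroup.eq_one_iff _).2 hc]
    exact one_mem H
  · let e₀ := G₀.equivMapOfInjective ι hinj
    let ψ : ↥(G₀.map ι) →* H :=
      ((π.comp G₀.subtype).codRestrict H fun x => x.2).comp e₀.symm.toMonoidHom
    have hψ : Function.Surjective ψ := by
      rintro ⟨h, hh⟩
      obtain ⟨x, rfl⟩ := QuotientGroup.mk'_surjective _ h
      exact ⟨e₀ ⟨x, hh⟩, Subtype.ext (congrArg (fun y => π (Subtype.val y)) (e₀.symm_apply_apply _))⟩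
    have hker : (scalars (Fin 3) F).subgroupOf (G₀.map ι) = ψ.ker := by
      ext g
      obtain ⟨x, rfl⟩ := e₀.surjective g
      rw [Subgroup.mem_subgroupOf, MonoidHom.mem_ker, Subtype.ext_iff]
      show ι x.1 ∈ _ ↔ π (Subtype.val (e₀.symm (e₀ x))) = 1
      rw [e₀.symm_apply_apply, hπ, QuotientGroup.mk'_apply, QuotientGroup.eq_one_iff, hcen]
    exact MulEquiv.ofBijective (QuotientGroup.lift _ ψ hker.le)
      ⟨lift_injective hker, fun h => by
        obtain ⟨g, rfl⟩ := hψ h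
        exact ⟨QuotientGroup.mk g, rfl⟩⟩

/-- No nontrivial elementary abelian normal subgroup means no solvable one. -/
theorem eq_bot_of_solvable {X : Type*} [Group X] [Finite X]
    (hN : ∀ N : Subgroup X, N.Normal → IsMulCommutative ↥N → (∃ r : ℕ, r.Prime ∧ ∀ x ∈ N, x ^ r = 1) → N = ⊥)
    (N : Subgroup X) (hn : N.Normal) (hs : Group.IsSolvable N) : N = ⊥ := by
  by_contra hne
  obtain ⟨M, hM, hMN⟩ := Cfsg.Lib.Core.exists_isMinNormal hn hne
  haveI := hs
  obtain ⟨hab, r, hr, hexp, -⟩ := Cfsg.Lib.Core.minimal_solvable_elementary hM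
    (Group.isSolvable_of_isSolvable_injective (f := Subgroup.inclusion hMN)
      (Subgroup.inclusion_injective hMN))
  exact hM.2.1 (hN M hM.1 hab ⟨r, hr, hexp⟩)

theorem radFree_of_bar {G : Subgroup (GL (Fin 3) F)}
    (h : ∀ N : Subgroup (PBar G), N.Normal → Group.IsSolvable N → N = ⊥) : RadFree G := by
  intro N hNG hn hsol x hx
  haveI := hsol
  set M := N.subgroupOf G
  haveI hM : M.Normal := ⟨fun n hn' g => hn g g.2 n hn'⟩
  haveI : Group.IsSolvable M := Dickson.isSolvable_congr (Subgroup.subgroupOfEquivOfLe hNG) hsol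
  have hbot : M.map (toBar G) = ⊥ := h _ (hM.map _ (toBar_surjective G))
    (Group.isSolvable_of_surjective ((toBar G).subgroupMap_surjective M))
  refine toBar_eq_one.1 (?_ : toBar G ⟨x, hNG hx⟩ = 1)
  rw [← Subgroup.mem_bot, ← hbot]
  exact Subgroup.mem_map_of_mem _ hx

/-- The list for `G`. -/
theorem sub_cases (p α : ℕ) [Fact p.Prime] [CharP F p] (hp : p ≠ 2) (hα : 1 ≤ α)
    (hF : Fintype.card F = p ^ α) {G : Subgroup (GL (Fin 3) F)} (hSL : G ≤ specialLinear (Fin 3) F)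
    (hZ : ∀ s ∈ scalars (Fin 3) F, s ∈ specialLinear (Fin 3) F → s ∈ G)
    (hG : RadFree G) (hne : ¬ G ≤ scalars (Fin 3) F) : Cases p α (PBar G) := by
  have h2 : (2 : F) ≠ 0 := by simpa using natCast_ne_zero (F := F) p Nat.prime_two hp
  have hirr := irreducible_of_radFree p h2 hSL hG hne
  by_cases hT : NoT G
  swap
  · exact transvection_list p α hα hF h2 hSL hZ hirr hT
  obtain ⟨P, hP, hPG, hn, hcent⟩ := exists_core p h2 hSL hG hne
  have hchar : ringChar F = p := ringChar.eq F p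
  rcases noT_cases h2 hP (noT_mono hPG hT) with ⟨Q, hQ, hfix⟩ | ⟨h7, ⟨e⟩⟩ | ⟨h3, ⟨e⟩⟩ | ⟨h5, ⟨e⟩⟩
  · exact quad_cases p α hp hF h2 hSL hG hne hP.absIrr hn hQ hfix
  · exact l32_cases p α (hchar ▸ h7) hF hSL hZ hP hPG hn hcent e
  · exact alt_six_cases p α hp (hchar ▸ h3) hF hSL hZ hPG hn hcent e
  · exact alt_seven_cases p α (hchar ▸ h5) hF hSL hPG hn hcent e

end Cfsg.Lib.Linear.Mitchell.Sub3
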