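import Cfsg.Agent.Lib.Linear.Mitchell.Sub3.Small
import Cfsg.Agent.Lib.Linear.Mitchell.Sub3.Socle
import Cfsg.Agent.Lib.Linear.Mitchell.Sub3.FiniteFacts

/-!
# The normaliser of a subgroup of order nine

In `SL₃` two lifts of a pair generating an elementary abelian group of order nine generate a Heisenberg
group, so what fixes the pair lies in it and what normalises it acts with determinant one.  With the
Frattini argument this bounds the automorphisms induced on `A₆` and `A₇`.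
-/

set_option autoImplicit false

namespace Cfsg.Lib.Linear.Mitchell.Sub3

open Cfsg.Geo
open scoped Matrix MatrixGroups

variable {A : Type*} [Group A]

namespace NineData

/-- The element of the subgroup of order nine with given exponents. -/
def pw (D : NineData A) (v : Fin 3 × Fin 3) : A := D.a ^ (v.1 : ℕ) * D.b ^ (v.2 : ℕ)

/-- The action of `j` on exponents. -/
def J (v : Fin 3 × Fin 3) : Fin 3 × Fin 3 := (-v.2, v.1)

theorem pw_mul (D : NineData A) (v w : Fin 3 × Fin 3) : D.pw v * D.pw w = D.pw (v + w) := by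
  have h1 : ∀ n : ℕ, D.a ^ n = D.a ^ (n % 3) := fun n => by
    conv_lhs => rw [← Nat.div_add_mod n 3, pow_add, pow_mul, D.a3, one_pow, one_mul]
  have h2 : ∀ n : ℕ, D.b ^ n = D.b ^ (n % 3) := fun n => by
    conv_lhs => rw [← Nat.div_add_mod n 3, pow_add, pow_mul, D.b3, one_pow, one_mul]
  simp only [pw, Prod.fst_add, Prod.snd_add, Fin.val_add]
  rw [← h1, ← h2, pow_add, pow_add,
    (show Commute D.a D.b from D.comm).pow_pow (w.1 : ℕ) (v.2 : ℕ) |>.symm.mul_mul_mul_comm]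

theorem pw_zero (D : NineData A) : D.pw 0 = 1 := by simp [pw]

theorem pw_inv (D : NineData A) (v : Fin 3 × Fin 3) : (D.pw v)⁻¹ = D.pw (-v) :=
  inv_eq_of_mul_eq_one_right (by rw [pw_mul, add_neg_cancel, pw_zero])

theorem pw_injective (D : NineData A) : Function.Injective D.pw := by
  intro v w h
  have h1 : D.pw (v - w) = 1 := by rw [sub_eq_add_neg, ← pw_mul, ← pw_inv, h, mul_inv_cancel]
  obtain ⟨e1, e2⟩ := D.indep _ _ (v - w).1.2 (v - w).2.2 h1
  exact sub_eq_zero.1 (Prod.ext (Fin.ext e1) (Fin.ext e2))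

theorem pw_J (D : NineData A) (v : Fin 3 × Fin 3) : D.j * D.pw v * D.j⁻¹ = D.pw (J v) := by
  have e : ∀ i l : ℕ, D.j * (D.a ^ i * D.b ^ l) * D.j⁻¹ = D.b ^ i * (D.a⁻¹) ^ l := fun i l => by
    rw [show D.j * (D.a ^ i * D.b ^ l) * D.j⁻¹ = (D.j * D.a * D.j⁻¹) ^ i * (D.j * D.b * D.j⁻¹) ^ l by
      rw [conj_pow, conj_pow]; group, D.ja, D.jb]
  have ha : D.a⁻¹ = D.a ^ 2 := inv_eq_of_mul_eq_one_right (by rw [← pow_succ', D.a3])
  have h1 : ∀ n : ℕ, D.a ^ n = D.a ^ (n % 3) := fun n => by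
    conv_lhs => rw [← Nat.div_add_mod n 3, pow_add, pow_mul, D.a3, one_pow, one_mul]
  rw [pw, e, ha, ← pow_mul, h1, pw, ((show Commute D.a D.b from D.comm).pow_pow _ _).eq]
  obtain ⟨x, y⟩ := v
  congr 2
  all_goals (revert x y; decide)

theorem pw_J_iterate (D : NineData A) (i : ℕ) (v : Fin 3 × Fin 3) :
    D.j ^ i * D.pw v * (D.j ^ i)⁻¹ = D.pw (J^[i] v) := by
  induction i with
  | zero => simp
  | succ i ih => rw [Function.iterate_succ_apply', ← pw_J, ← ih, pow_succ']; group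

theorem pw_cls (D : NineData A) {v : Fin 3 × Fin 3} (hv : v ≠ 0) :
    D.cls (D.pw v) ↔ v.1 = 0 ∨ v.2 = 0 := by
  have key : ∀ v : Fin 3 × Fin 3, v ≠ 0 → ∃ i : Fin 4,
      (v = J^[(i : ℕ)] (1, 0) ∧ (v.1 = 0 ∨ v.2 = 0)) ∨ (v = J^[(i : ℕ)] (1, 1) ∧ ¬ (v.1 = 0 ∨ v.2 = 0)) := by
    decide
  obtain ⟨i, ⟨rfl, h⟩ | ⟨rfl, h⟩⟩ := key v hv <;> rw [← pw_J_iterate, D.cls_conj]
  · exact iff_of_true (by simpa [pw] using D.cls_a) h
  · exact iff_of_false (by simpa [pw] using D.not_cls) h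

/-- The subgroup of order nine. -/
def E (D : NineData A) : Subgroup A where
  carrier := Set.range D.pw
  one_mem' := ⟨0, D.pw_zero⟩
  mul_mem' := by rintro _ _ ⟨v, rfl⟩ ⟨w, rfl⟩; exact ⟨v + w, (D.pw_mul v w).symm⟩
  inv_mem' := by rintro _ ⟨v, rfl⟩; exact ⟨-v, (D.pw_inv v).symm⟩

theorem a_eq (D : NineData A) : D.pw (1, 0) = D.a := by simp [pw]

theorem b_eq (D : NineData A) : D.pw (0, 1) = D.b := by simp [pw]

theorem ab_eq (D : NineData A) : D.pw (1, 1) = D.a * D.b := by simp [pw]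

theorem ab'_eq (D : NineData A) : D.pw (1, 2) = D.a * D.b⁻¹ := by
  rw [← a_eq, ← b_eq, pw_inv, pw_mul]; rfl

/-- The Frattini argument. -/
theorem exists_normalise [Finite A] (D : NineData A) (φ : MulAut A) :
    ∃ q, ∃ v w, q * φ D.a * q⁻¹ = D.pw v ∧ q * φ D.b * q⁻¹ = D.pw w := by
  haveI : Fact (Nat.Prime 3) := ⟨by norm_num⟩
  obtain ⟨m, hm, h3⟩ := D.card
  have hE : Nat.card D.E = 9 := by
    rw [show Nat.card D.E = Nat.card (Set.range D.pw) from rfl,
      Nat.card_congr (Equiv.ofInjective D.pw D.pw_injective).symm]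
    simp
  have hi : ¬ 3 ∣ D.E.index := by
    have := D.E.card_mul_index
    rw [hE, hm] at this
    rwa [show D.E.index = m by omega]
  have hp : IsPGroup 3 D.E := IsPGroup.of_card (n := 2) hE
  have hi' : ¬ 3 ∣ (D.E.map φ.toMonoidHom).index := by
    rwa [Subgroup.index_map_of_bijective φ.bijective]
  obtain ⟨q, hq⟩ := MulAction.exists_smul_eq A ((hp.map φ.toMonoidHom).toSylow hi') (hp.toSylow hi)
  have h : ∀ x ∈ D.E, q * φ x * q⁻¹ ∈ D.E := fun x hx => by
    have h0 : φ x ∈ ((hp.map φ.toMonoidHom).toSylow hi' : Subgroup A) := Subgroup.mem_map_of_mem _ hx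
    have h1 := Subgroup.smul_mem_pointwise_smul (φ x) (MulAut.conj q) _ h0
    rw [← Sylow.coe_subgroup_smul, hq] at h1
    exact h1
  obtain ⟨v, hv⟩ := h _ ⟨(1, 0), D.a_eq⟩
  obtain ⟨w, hw⟩ := h _ ⟨(0, 1), D.b_eq⟩
  exact ⟨q, v, w, hv.symm, hw.symm⟩

end NineData

variable {F : Type*} [Field F] {G : Subgroup (GL (Fin 3) F)}

/-- Lifts of a pair of commuting elements of order three with scalar commutator. -/
structure Heis (G : Subgroup (GL (Fin 3) F)) (σ τ : PBar G) (c : F) : Type _ where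
  x : G
  y : G
  hx : toBar G x = σ
  hy : toBar G y = τ
  prim : IsPrimitiveRoot c 3
  x3 : (x : GL (Fin 3) F) ^ 3 = 1
  y3 : (y : GL (Fin 3) F) ^ 3 = 1
  hyx : ((y : GL (Fin 3) F) * x).val = c • ((x : GL (Fin 3) F) * y).val

theorem exists_heis (p : ℕ) [Fact p.Prime] [CharP F p] (hp2 : p ≠ 2) (hp3 : p ≠ 3)
    (hSL : G ≤ specialLinear (Fin 3) F) (D : NineData A) {ι : A →* PBar G}
    (hι : Function.Injective ι) : ∃ c, Nonempty (Heis G (ι D.a) (ι D.b) c) := by
  obtain ⟨x, hx⟩ := toBar_surjective G (ι D.a)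
  obtain ⟨y, hy⟩ := toBar_surjective G (ι D.b)
  have x3 := cube_lift hSL (κ := ι D.u) (by rw [hx, ← map_pow, D.a3, map_one])
    (by rw [hx, ← map_inv, ← map_inv, ← map_mul, ← map_mul, D.ua])
  have y3 := cube_lift hSL (κ := ι D.u) (by rw [hy, ← map_pow, D.b3, map_one])
    (by rw [hy, ← map_inv, ← map_inv, ← map_mul, ← map_mul, D.ub])
  obtain ⟨s, hs, he⟩ := toBar_eq_iff.1 (show toBar G (y * x) = toBar G (x * y) by
    rw [map_mul, map_mul, hx, hy, ← map_mul, ← map_mul, D.comm])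
  simp only [Subgroup.coe_mul] at he
  have hsl : s ∈ specialLinear (Fin 3) F := by
    rw [show s = (y : GL (Fin 3) F) * x * ((x : GL (Fin 3) F) * y)⁻¹ by rw [he, mul_inv_cancel_right]]
    exact mul_mem (mul_mem (hSL y.2) (hSL x.2)) (inv_mem (mul_mem (hSL x.2) (hSL y.2)))
  obtain ⟨c, hc0, hc⟩ := exists_scalar hs
  haveI : Fact (Nat.Prime 3) := ⟨by norm_num⟩
  have hc3 : c ^ 3 = 1 := by
    have h := congrArg Units.val (scalar_cube hs hsl)
    rw [Units.val_pow_eq_pow_val, hc, smul_pow, one_pow, Units.val_one] at h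
    have := congrFun (congrFun h 0) 0
    simpa using this
  have hc1 : c ≠ 1 := by
    intro hc1
    have hs1 : s = 1 := Units.ext (by rw [hc, hc1, one_smul, Units.val_one])
    rw [hs1, one_mul] at he
    refine no_commuting_pair p hp2 hp3 (hSL x.2) (hSL y.2) x3 y3 he.symm fun i j hi hj hne hmem => ?_
    have h1 : toBar G (x ^ i * y ^ j) = 1 := toBar_eq_one.2 hmem
    rw [map_mul, map_pow, map_pow, hx, hy, ← map_pow, ← map_pow, ← map_mul, ← map_one ι] at h1
    obtain ⟨e1, e2⟩ := D.indep i j hi hj (hι h1)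
    exact hne.elim (absurd e1) (absurd e2)
  refine ⟨c, ⟨⟨x, y, hx, hy, ?_, x3, y3, ?_⟩⟩⟩
  · have ho := orderOf_eq_prime hc3 hc1
    exact ho ▸ IsPrimitiveRoot.orderOf c
  · rw [he, Units.val_mul, hc, Matrix.smul_mul, one_mul]

theorem Heis.three_dvd [Fintype F] {σ τ : PBar G} {c : F} (H : Heis G σ τ c) :
    3 ∣ Fintype.card F - 1 :=
  (H.prim.pow_eq_one_iff_dvd _).1
    (FiniteField.pow_card_sub_one_eq_one c (H.prim.ne_zero three_ne_zero))

/-- What fixes the pair lies in the group it generates. -/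
theorem Heis.fixed (h3 : (3 : F) ≠ 0) (hSL : G ≤ specialLinear (Fin 3) F) {σ τ : PBar G} {c : F}
    (H : Heis G σ τ c) {κ : PBar G} (hσ : κ * σ * κ⁻¹ = σ) (hτ : κ * τ * κ⁻¹ = τ) :
    ∃ l n : ℕ, σ ^ l * τ ^ n * κ = 1 := by
  obtain ⟨k, rfl⟩ := toBar_surjective G κ
  have key : ∀ {z : G} {μ : PBar G}, toBar G z = μ → (z : GL (Fin 3) F) ^ 3 = 1 →
      toBar G k * μ * (toBar G k)⁻¹ = μ →
      ∃ m : ℕ, m < 3 ∧ (k : GL (Fin 3) F).val * (z : GL (Fin 3) F).val =
        c ^ m • ((z : GL (Fin 3) F).val * (k : GL (Fin 3) F).val) := by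
    intro z μ hz z3 h
    rw [← hz, ← map_inv, ← map_mul, ← map_mul] at h
    obtain ⟨s, hs, he⟩ := toBar_eq_iff.1 h
    simp only [Subgroup.coe_mul, Subgroup.coe_inv] at he
    obtain ⟨r, -, hr⟩ := exists_scalar hs
    have h1 := congrArg (· ^ 3) he
    simp only [conj_pow, (show Commute s (z : GL (Fin 3) F) from (scalars_comm' hs _).symm).mul_pow, z3,
      mul_one, mul_inv_cancel] at h1
    have hr3 : r ^ 3 = 1 := by
      have h2 := congrArg Units.val h1.symm
      rw [Units.val_pow_eq_pow_val, hr, smul_pow, one_pow, Units.val_one] at h2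
      simpa using congrFun (congrFun h2 0) 0
    obtain ⟨m, hm, rfl⟩ := H.prim.eq_pow_of_pow_eq_one hr3
    refine ⟨m, hm, ?_⟩
    rw [mul_inv_eq_iff_eq_mul] at he
    rw [← Units.val_mul, he, Units.val_mul, Units.val_mul, hr, mul_assoc, Matrix.smul_mul, one_mul]
  obtain ⟨m, hm, h1⟩ := key H.hx H.x3 hσ
  obtain ⟨l, -, h2⟩ := key H.hy H.y3 hτ
  set X := (H.x : GL (Fin 3) F).val with hX
  set Y := (H.y : GL (Fin 3) F).val with hY
  set K := (k : GL (Fin 3) F).val with hK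
  have d1 : X ^ l * Y ^ (2 * m) * K * X = X * (X ^ l * Y ^ (2 * m) * K) := by
    have e := pow_swap H.hyx (2 * m) 1
    rw [pow_one, one_mul, ← hX, ← hY] at e
    calc X ^ l * Y ^ (2 * m) * K * X = c ^ m • (X ^ l * (Y ^ (2 * m) * X) * K) := by
          rw [mul_assoc _ K, h1, Matrix.mul_smul]; simp only [mul_assoc]
      _ = (c ^ m * c ^ (2 * m)) • (X ^ l * X * Y ^ (2 * m) * K) := by
          rw [e, Matrix.mul_smul, Matrix.smul_mul, smul_smul]; simp only [mul_assoc]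
      _ = X * (X ^ l * Y ^ (2 * m) * K) := by
          rw [← pow_add, show m + 2 * m = 3 * m by ring, pow_mul, H.prim.pow_eq_one, one_pow, one_smul,
            ← pow_succ, pow_succ']
          simp only [mul_assoc]
  have d2 : X ^ l * Y ^ (2 * m) * K * Y = Y * (X ^ l * Y ^ (2 * m) * K) := by
    have e := pow_swap H.hyx 1 l
    rw [pow_one, mul_one, ← hX, ← hY] at e
    calc X ^ l * Y ^ (2 * m) * K * Y = c ^ l • (X ^ l * (Y ^ (2 * m) * Y) * K) := by
          rw [mul_assoc _ K, h2, Matrix.mul_smul]; simp only [mul_assoc]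
      _ = c ^ l • (X ^ l * Y) * (Y ^ (2 * m) * K) := by
          rw [← pow_succ, pow_succ', Matrix.smul_mul]; simp only [mul_assoc]
      _ = Y * (X ^ l * Y ^ (2 * m) * K) := by
          rw [← e]; simp only [mul_assoc]
  refine ⟨l, 2 * m, ?_⟩
  refine (congrArg₂ (fun u v => u ^ l * v ^ (2 * m) * toBar G k) H.hx H.hy).symm.trans ?_
  beta_reduce
  rw [← map_pow, ← map_pow, ← map_mul, ← map_mul]
  refine toBar_eq_one.2 (heis_centralizer h3 H.prim H.x3 H.y3 H.hyx (Units.ext ?_) (Units.ext ?_)) <;>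
    simp only [Subgroup.coe_mul, SubmonoidClass.coe_pow, Units.val_mul, Units.val_pow_eq_pow_val]
  · exact d1
  · exact d2

/-- The determinant of what normalises the pair is one. -/
theorem Heis.det_rule (h3 : (3 : F) ≠ 0) {σ τ : PBar G} {c : F} (H : Heis G σ τ c) {κ : PBar G}
    {α β γ δ : ℕ} (hσ : κ * σ * κ⁻¹ = σ ^ α * τ ^ β) (hτ : κ * τ * κ⁻¹ = σ ^ γ * τ ^ δ) :
    (α * δ) % 3 = (1 + β * γ) % 3 := by
  obtain ⟨k, rfl⟩ := toBar_surjective G κ
  have key : ∀ {z : G} {μ : PBar G} {a b : ℕ}, toBar G z = μ →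
      toBar G k * μ * (toBar G k)⁻¹ = σ ^ a * τ ^ b → ∃ r : F, r ≠ 0 ∧
      ((k : GL (Fin 3) F) * z * (k : GL (Fin 3) F)⁻¹).val =
        r • ((H.x : GL (Fin 3) F).val ^ a * (H.y : GL (Fin 3) F).val ^ b) := by
    intro z μ a b hz h
    replace h := h.trans (congrArg₂ (fun u v => u ^ a * v ^ b) H.hx H.hy).symm
    beta_reduce at h
    rw [← hz, ← map_inv, ← map_mul, ← map_mul, ← map_pow, ← map_pow, ← map_mul] at h
    obtain ⟨s, hs, he⟩ := toBar_eq_iff.1 h
    simp only [Subgroup.coe_mul, Subgroup.coe_inv, SubmonoidClass.coe_pow] at he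
    obtain ⟨r, hr0, hr⟩ := exists_scalar hs
    exact ⟨r, hr0, by rw [he, Units.val_mul, hr, Matrix.smul_mul, one_mul, Units.val_mul,
      Units.val_pow_eq_pow_val, Units.val_pow_eq_pow_val]⟩
  obtain ⟨r, hr, h1⟩ := key H.hx hσ
  obtain ⟨s, hs, h2⟩ := key H.hy hτ
  exact heis_det h3 H.prim H.hyx _ hr hs h1 h2

end Cfsg.Lib.Linear.Mitchell.Sub3
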