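import Cfsg.Agent.Lib.Linear.Mitchell.Sub3.Basic
import Cfsg.Agent.Lib.Dickson.Solvable
import Cfsg.Agent.Lib.Dickson.Orders

/-!
# Reducible groups have a solvable normal subgroup modulo scalars

In odd characteristic a reducible subgroup of `SL₃` embeds, apart from an abelian normal subgroup, in
`GL₂`; what has determinant one there contains no involution unless the group has a non-scalar
central element, so it has odd order and is solvable by Dickson's list.
-/

set_option autoImplicit false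

namespace Cfsg.Lib.Linear.Mitchell.Sub3

open Cfsg.Geo
open scoped Matrix MatrixGroups

variable {F : Type*} [Field F] {G : Subgroup (GL (Fin 3) F)}

theorem RadFree.map (hG : RadFree G) (f : GL (Fin 3) F ≃* GL (Fin 3) F)
    (hf : ∀ x, f x ∈ scalars (Fin 3) F ↔ x ∈ scalars (Fin 3) F) : RadFree (G.map f.toMonoidHom) := by
  intro N hNG hN hsol x hx
  obtain ⟨y, hy, rfl⟩ := hNG hx
  have h := hG (N.comap f.toMonoidHom) (fun z hz => by
      obtain ⟨w, hw, e⟩ := hNG (Subgroup.mem_comap.1 hz)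
      rwa [← f.injective e])
    (fun g hg z hz => Subgroup.mem_comap.2 (by
      rw [map_mul, map_mul, map_inv]
      exact hN _ ⟨g, hg, rfl⟩ _ (Subgroup.mem_comap.1 hz)))
    (by
      haveI := hsol
      exact Group.isSolvable_of_isSolvable_injective (f := f.toMonoidHom.subgroupComap N)
        (fun a b e => Subtype.ext (f.injective (congrArg Subtype.val e))))
  exact (hf y).2 (h (Subgroup.mem_comap.2 hx))

theorem exists_col {v : Fin 3 → F} (hv : v ≠ 0) : ∃ k : GL (Fin 3) F, k.val *ᵥ ev 0 = v := by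
  obtain ⟨i, hi⟩ := Function.ne_iff.1 hv
  have mk : ∀ M : Matrix (Fin 3) (Fin 3) F, M.det ≠ 0 → M *ᵥ ev 0 = v →
      ∃ k : GL (Fin 3) F, k.val *ᵥ ev 0 = v := fun M hd hM =>
    ⟨Matrix.GeneralLinearGroup.mkOfDetNeZero M hd, hM⟩
  fin_cases i
  · refine mk !![v 0, 0, 0; v 1, 1, 0; v 2, 0, 1] (by simpa [Matrix.det_fin_three] using hi) ?_
    ext j; fin_cases j <;> simp [ev]
  · refine mk !![v 0, 1, 0; v 1, 0, 0; v 2, 0, 1] (by simpa [Matrix.det_fin_three] using hi) ?_
    ext j; fin_cases j <;> simp [ev]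
  · refine mk !![v 0, 1, 0; v 1, 0, 1; v 2, 0, 0] (by simpa [Matrix.det_fin_three] using hi) ?_
    ext j; fin_cases j <;> simp [ev]

theorem conj_mem_scalars_iff (k x : GL (Fin 3) F) :
    MulAut.conj k x ∈ scalars (Fin 3) F ↔ x ∈ scalars (Fin 3) F := by
  haveI : (scalars (Fin 3) F).Normal :=
    ⟨fun n hn g => by rw [scalars_comm' hn g, mul_inv_cancel_right]; exact hn⟩
  exact ⟨fun h => by simpa [MulAut.conj_apply, mul_assoc] using Subgroup.Normal.conj_mem inferInstance _ h k⁻¹,
    fun h => Subgroup.Normal.conj_mem inferInstance _ h k⟩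

theorem det_first (hSL : G ≤ specialLinear (Fin 3) F) (h0 : ∀ g ∈ G, g.val 1 0 = 0 ∧ g.val 2 0 = 0)
    (g : G) :
    g.1.val 0 0 * (g.1.val 1 1 * g.1.val 2 2 - g.1.val 1 2 * g.1.val 2 1) = 1 := by
  have h := det_val_eq_one (hSL g.2)
  rw [Matrix.det_fin_three, (h0 g g.2).1, (h0 g g.2).2] at h
  linear_combination h

/-- The lower right block. -/
def lowBlock (M : Matrix (Fin 3) (Fin 3) F) : Matrix (Fin 2) (Fin 2) F :=
  !![M 1 1, M 1 2; M 2 1, M 2 2]

theorem lowBlock_mul {M N : Matrix (Fin 3) (Fin 3) F} (h1 : M 1 0 = 0) (h2 : M 2 0 = 0) :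
    lowBlock (M * N) = lowBlock M * lowBlock N := by
  ext i j
  fin_cases i <;> fin_cases j <;>
    simp [lowBlock, Matrix.mul_apply, Fin.sum_univ_three, h1, h2]

/-- The action on the quotient by the fixed line. -/
def lowHom (hSL : G ≤ specialLinear (Fin 3) F) (h0 : ∀ g ∈ G, g.val 1 0 = 0 ∧ g.val 2 0 = 0) :
    G →* GL (Fin 2) F where
  toFun g := Matrix.GeneralLinearGroup.mkOfDetNeZero (lowBlock g.1.val) (by
    rw [lowBlock, Matrix.det_fin_two]
    simpa using right_ne_zero_of_mul_eq_one (det_first hSL h0 g))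
  map_one' := Units.ext (by
    show lowBlock (1 : Matrix (Fin 3) (Fin 3) F) = 1
    ext i j; fin_cases i <;> fin_cases j <;> simp [lowBlock])
  map_mul' a b := Units.ext (lowBlock_mul (h0 a a.2).1 (h0 a a.2).2)

theorem lowHom_val (hSL : G ≤ specialLinear (Fin 3) F) (h0 : ∀ g ∈ G, g.val 1 0 = 0 ∧ g.val 2 0 = 0)
    (g : G) : (lowHom hSL h0 g).val = lowBlock g.1.val := rfl

theorem unip_commute {A B : Matrix (Fin 3) (Fin 3) F}
    (hA : A 0 0 = 1 ∧ A 1 1 = 1 ∧ A 1 2 = 0 ∧ A 2 1 = 0 ∧ A 2 2 = 1 ∧ A 1 0 = 0 ∧ A 2 0 = 0)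
    (hB : B 0 0 = 1 ∧ B 1 1 = 1 ∧ B 1 2 = 0 ∧ B 2 1 = 0 ∧ B 2 2 = 1 ∧ B 1 0 = 0 ∧ B 2 0 = 0) :
    A * B = B * A := by
  obtain ⟨a0, a1, a2, a3, a4, a5, a6⟩ := hA
  obtain ⟨b0, b1, b2, b3, b4, b5, b6⟩ := hB
  ext i j
  fin_cases i <;> fin_cases j <;>
    simp [Matrix.mul_apply, Fin.sum_univ_three, a0, a1, a2, a3, a4, a5, a6, b0, b1, b2, b3, b4, b5,
      b6] <;> ring

theorem lowHom_injective (hSL : G ≤ specialLinear (Fin 3) F) (hG : RadFree G)
    (h0 : ∀ g ∈ G, g.val 1 0 = 0 ∧ g.val 2 0 = 0) : Function.Injective (lowHom hSL h0) := by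
  set ρ := lowHom hSL h0 with hρ
  have hA : ∀ g : G, g ∈ ρ.ker → g.1.val 0 0 = 1 ∧ g.1.val 1 1 = 1 ∧ g.1.val 1 2 = 0 ∧
      g.1.val 2 1 = 0 ∧ g.1.val 2 2 = 1 ∧ g.1.val 1 0 = 0 ∧ g.1.val 2 0 = 0 := fun g hg => by
    have e : lowBlock g.1.val = 1 := congrArg Units.val (MonoidHom.mem_ker.1 hg)
    have e00 := congrFun (congrFun e 0) 0
    have e01 := congrFun (congrFun e 0) 1
    have e10 := congrFun (congrFun e 1) 0
    have e11 := congrFun (congrFun e 1) 1
    simp [lowBlock] at e00 e01 e10 e11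
    have := det_first hSL h0 g
    rw [e00, e01, e10, e11] at this
    exact ⟨by linear_combination this, e00, e01, e10, e11, (h0 g g.2).1, (h0 g g.2).2⟩
  have hker : ρ.ker.map G.subtype ≤ scalars (Fin 3) F := by
    refine hG.scalar_of_abelian (by rintro _ ⟨g, -, rfl⟩; exact g.2) ?_ ?_
    · rintro g hg _ ⟨x, hx, rfl⟩
      have hc := (MonoidHom.normal_ker ρ).conj_mem x hx ⟨g, hg⟩
      exact Subgroup.mem_map_of_mem G.subtype hc
    · rintro _ ⟨a, ha, rfl⟩ _ ⟨b, hb, rfl⟩
      exact Units.ext (unip_commute (hA a ha) (hA b hb))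
  rw [injective_iff_map_eq_one]
  intro g hg
  obtain ⟨c, -, hc⟩ := exists_scalar (hker ⟨g, MonoidHom.mem_ker.2 hg, rfl⟩)
  change g.1.val = c • 1 at hc
  have hc1 : c = 1 := by
    have h := (hA g hg).1
    simpa [hc] using h
  exact Subtype.ext (Units.ext (by simpa [hc1] using hc))

theorem scalar_of_block (hSL : G ≤ specialLinear (Fin 3) F) (hG : RadFree G)
    (h0 : ∀ g ∈ G, g.val 1 0 = 0 ∧ g.val 2 0 = 0) (g : G) {c : F} (hc : lowBlock g.1.val = c • 1) :
    (g : GL (Fin 3) F) ∈ scalars (Fin 3) F := by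
  set ρ := lowHom hSL h0 with hρ
  have hinj : Function.Injective ρ := lowHom_injective hSL hG h0
  have hz : ((Subgroup.center (GL (Fin 2) F)).comap ρ).map G.subtype ≤ scalars (Fin 3) F := by
    refine hG.scalar_of_abelian (by rintro _ ⟨g, -, rfl⟩; exact g.2) ?_ ?_
    · rintro k hk _ ⟨x, hx, rfl⟩
      have hc := Subgroup.Normal.conj_mem (H := (Subgroup.center (GL (Fin 2) F)).comap ρ) inferInstance x hx ⟨k, hk⟩
      exact Subgroup.mem_map_of_mem G.subtype hc
    · rintro _ ⟨a, ha, rfl⟩ _ ⟨b, -, rfl⟩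
      rw [← map_mul, ← map_mul]
      refine congrArg G.subtype (hinj ?_)
      rw [map_mul, map_mul]
      exact (Subgroup.mem_center_iff.1 (Subgroup.mem_comap.1 ha) _).symm
  refine hz ⟨g, Subgroup.mem_comap.2 (Subgroup.mem_center_iff.2 fun y => Units.ext ?_), rfl⟩
  rw [Units.val_mul, Units.val_mul, hρ, lowHom_val, hc, Matrix.mul_smul, Matrix.smul_mul, mul_one,
    one_mul]

/-- A subgroup of `SL₂` without `-1` is solvable. -/
theorem isSolvable_of_no_neg_one [Fintype F] (p : ℕ) [Fact p.Prime] [CharP F p] (h2 : (2 : F) ≠ 0)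
    {D : Type*} [Group D] [Finite D] (ψ : D →* Matrix.SpecialLinearGroup (Fin 2) F)
    (hψ : Function.Injective ψ) (hneg : ∀ g, (ψ g).val ≠ -1) : Group.IsSolvable D := by
  classical
  have hodd : ¬ 2 ∣ Nat.card D := by
    intro hd
    haveI : Fact (Nat.Prime 2) := ⟨Nat.prime_two⟩
    obtain ⟨g, hg⟩ := exists_prime_orderOf_dvd_card' (G := D) 2 hd
    refine hneg g ?_
    have hg2 : g * g = 1 := by rw [← pow_two, ← hg, pow_orderOf_eq_one]
    have := sl_two_involution h2 (A := ψ g) (by rw [← map_mul, hg2, map_one]) (fun e => by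
      rw [← map_one ψ] at e
      rw [hψ e, orderOf_one] at hg
      omega)
    rw [this]
    ext i j; fin_cases i <;> fin_cases j <;> simp
  let π : D →* Matrix.ProjectiveSpecialLinearGroup (Fin 2) F := (QuotientGroup.mk' _).comp ψ
  have hπ : Function.Injective π := by
    rw [injective_iff_map_eq_one]
    intro g hg
    have hc : ψ g ∈ Subgroup.center _ := (QuotientGroup.eq_one_iff _).1 hg
    obtain ⟨r, hr, hrc⟩ := Matrix.SpecialLinearGroup.mem_center_iff.1 hc
    rw [Fintype.card_fin] at hr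
    rcases sq_eq_one_iff.1 hr with rfl | rfl
    · exact hψ (by rw [map_one]; exact Subtype.ext (by rw [← hrc]; simp))
    · refine absurd ?_ (hneg g)
      rw [← hrc]; ext i j; fin_cases i <;> fin_cases j <;> simp
  haveI : Finite (Matrix.ProjectiveSpecialLinearGroup (Fin 2) F) := inferInstance
  refine Dickson.isSolvable_congr (MonoidHom.ofInjective hπ) ?_
  have hoddR : ¬ 2 ∣ Nat.card π.range := by
    rwa [← Nat.card_congr (MonoidHom.ofInjective hπ).toEquiv]
  rcases Dickson.psl_subgroup_cases p π.range with ⟨k, -, hc⟩ | ⟨-, P, hP⟩ | ⟨-, hc⟩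
  · rcases hc with ⟨hcy, -⟩ | ⟨⟨e⟩⟩
    · letI := hcy.commGroup
      exact Dickson.isSolvable_comm
    · exact Dickson.isSolvable_congr e (Dickson.isSolvable_dihedral k)
  · haveI := Dickson.isSolvable_normalizer_sylow_psl p P
    exact Group.isSolvable_of_isSolvable_injective (f := Subgroup.inclusion hP)
      (Subgroup.inclusion_injective hP)
  · exfalso
    refine hoddR ?_
    rcases hc with ⟨⟨e⟩⟩ | ⟨⟨e⟩⟩ | ⟨⟨e⟩⟩ | ⟨K, _, _, m, -, h3, -, hK⟩
    · rw [Nat.card_congr e.toEquiv, Nat.card_eq_fintype_card]; decide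
    · rw [Nat.card_congr e.toEquiv, Nat.card_eq_fintype_card, Fintype.card_perm]; decide
    · rw [Nat.card_congr e.toEquiv, Nat.card_eq_fintype_card]; decide
    · rcases hK with ⟨⟨eK⟩, hq⟩ | ⟨⟨eK⟩⟩
      · rw [Nat.card_congr eK.toEquiv]
        obtain ⟨t, ht⟩ : ∃ t, Fintype.card K = 2 * t + 1 := ⟨Fintype.card K / 2, by omega⟩
        obtain ⟨r, hr⟩ := Nat.even_mul_succ_self t
        have hc := Linear.Two.card_PSL_two (F := K)
        rw [ht, show Nat.gcd 2 (2 * t + 1 - 1) = 2 by rw [Nat.gcd_eq_left_iff_dvd]; exact ⟨t, by omega⟩,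
          show (2 * t + 1) ^ 2 - 1 = 4 * (t * (t + 1)) by
            rw [show (2 * t + 1) ^ 2 = 4 * (t * (t + 1)) + 1 by ring]; omega, hr] at hc
        refine ⟨(2 * t + 1) * (r + r), ?_⟩
        have e4 : 2 * Nat.card (Matrix.ProjectiveSpecialLinearGroup (Fin 2) K) =
            2 * (2 * ((2 * t + 1) * (r + r))) := by rw [hc]; ring
        omega
      · rw [Nat.card_congr eK.toEquiv, Dickson.card_PGL_two_eq]
        exact even_iff_two_dvd.1 (by
          rcases Nat.even_or_odd (Fintype.card K) with h | h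
          · exact h.mul_right _
          · exact (Nat.Odd.sub_odd (h.pow) odd_one).mul_left _)

theorem not_solvable_first [Fintype F] (p : ℕ) [Fact p.Prime] [CharP F p] (h2 : (2 : F) ≠ 0)
    (hSL : G ≤ specialLinear (Fin 3) F) (hG : RadFree G) (hne : ¬ G ≤ scalars (Fin 3) F)
    (h0 : ∀ g ∈ G, g.val 1 0 = 0 ∧ g.val 2 0 = 0) : False := by
  set ρ := lowHom hSL h0 with hρ
  let d : G →* Fˣ := Matrix.GeneralLinearGroup.det.comp ρ
  let ψ : d.ker →* Matrix.SpecialLinearGroup (Fin 2) F :=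
    { toFun := fun g => ⟨(ρ g).val, by
        have := congrArg Units.val (MonoidHom.mem_ker.1 g.2)
        simpa [d] using this⟩
      map_one' := Subtype.ext (by simp)
      map_mul' := fun a b => Subtype.ext (by
        show (ρ (a * b : d.ker)).val = (ρ a).val * (ρ b).val
        rw [Subgroup.coe_mul, map_mul, Units.val_mul]) }
  have hψ : Function.Injective ψ := fun a b e =>
    Subtype.ext (lowHom_injective hSL hG h0 (Units.ext (congrArg Subtype.val e)))
  haveI : Finite d.ker := inferInstance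
  have hsol : Group.IsSolvable d.ker := isSolvable_of_no_neg_one p h2 ψ hψ (fun g e => by
    have e' : lowBlock (g : G).1.val = (-1 : F) • 1 := by rw [neg_one_smul]; exact e
    obtain ⟨c, -, hc⟩ := exists_scalar (scalar_of_block hSL hG h0 g e')
    change (g : G).1.val = c • 1 at hc
    have h3 := det_first hSL h0 (g : G)
    have e00 := congrFun (congrFun e' 0) 0
    simp [lowBlock, hc] at e00
    rw [hc, e00] at h3
    simp at h3
    exact h2 (by linear_combination -h3))
  refine hG.not_solvable hne ?_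
  haveI := hsol
  haveI : Group.IsSolvable Fˣ := Dickson.isSolvable_comm
  exact Group.isSolvable_of_ker_le_range d.ker.subtype d (by rw [Subgroup.range_subtype])

/-- Reducible groups are excluded. -/
theorem irreducible_of_radFree [Fintype F] (p : ℕ) [Fact p.Prime] [CharP F p] (h2 : (2 : F) ≠ 0)
    (hSL : G ≤ specialLinear (Fin 3) F) (hG : RadFree G) (hne : ¬ G ≤ scalars (Fin 3) F) :
    ActsIrreducibly (matrixSet G) := by
  rw [Asch.irr_iff]
  by_contra hcon
  push Not at hcon
  obtain ⟨W, hW, hW0, hW1⟩ := hcon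
  -- a fixed line in some twist
  have line : ∀ (f : GL (Fin 3) F ≃* GL (Fin 3) F),
      (∀ x, f x ∈ scalars (Fin 3) F ↔ x ∈ scalars (Fin 3) F) →
      (∀ x ∈ specialLinear (Fin 3) F, f x ∈ specialLinear (Fin 3) F) →
      (∀ x ∈ G, (f x).val 1 0 = 0 ∧ (f x).val 2 0 = 0) → False := fun f hf hfs h =>
    not_solvable_first p h2 (G := G.map f.toMonoidHom)
      (by rintro _ ⟨x, hx, rfl⟩; exact hfs x (hSL hx)) (hG.map f hf)
      (fun hle => hne fun x hx => (hf x).1 (hle ⟨x, hx, rfl⟩))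
      (by rintro _ ⟨x, hx, rfl⟩; exact h x hx)
  have col : ∀ (k x : GL (Fin 3) F) (c : F), x.val *ᵥ (k.val *ᵥ ev 0) = c • (k.val *ᵥ ev 0) →
      (k⁻¹ * x * k).val 1 0 = 0 ∧ (k⁻¹ * x * k).val 2 0 = 0 := by
    intro k x c h
    have e : (k⁻¹ * x * k).val *ᵥ ev 0 = c • ev 0 := by
      rw [Asch.mul_mulVec, Asch.mul_mulVec, h, Matrix.mulVec_smul, Asch.inv_mulVec_mulVec]
    have hcol : ∀ (M : Matrix (Fin 3) (Fin 3) F) (i : Fin 3), (M *ᵥ ev 0) i = M i 0 := fun M i => by
      simp [ev]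
    have e1 := congrFun e 1
    have e2 := congrFun e 2
    rw [hcol, Pi.smul_apply] at e1 e2
    exact ⟨e1.trans (by simp [ev]), e2.trans (by simp [ev])⟩
  by_cases h1 : Module.finrank F W = 1
  · obtain ⟨⟨v, hvW⟩, hv0, hgen⟩ := finrank_eq_one_iff'.1 h1
    obtain ⟨k, hk⟩ := exists_col (fun e => hv0 (Subtype.ext e) : v ≠ 0)
    refine line (MulAut.conj k⁻¹) (conj_mem_scalars_iff _)
      (fun x hx => (MonoidHom.normal_ker _).conj_mem x hx _) fun x hx => ?_
    obtain ⟨c, hc⟩ := hgen ⟨x.val *ᵥ v, hW x hx v hvW⟩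
    simp only [MulAut.conj_apply, inv_inv]
    refine col k x c ?_
    rw [hk]
    exact (congrArg Subtype.val hc).symm
  · -- the annihilator of a plane
    have h3 : Module.finrank F W = 2 := by
      have ha := Submodule.finrank_lt hW1
      have hb : 0 < Module.finrank F W := Module.finrank_pos_iff_exists_ne_zero.2 (by
        obtain ⟨v, hv, hv0⟩ := Submodule.exists_mem_ne_zero_of_ne_bot hW0
        exact ⟨⟨v, hv⟩, fun e => hv0 (congrArg Subtype.val e)⟩)
      rw [Module.finrank_fin_fun] at ha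
      omega
    obtain ⟨u, hu⟩ : ∃ u : Fin 3 → F, u ∉ W := by
      by_contra h; push Not at h; exact hW1 (Submodule.eq_top_iff'.2 h)
    obtain ⟨φ, hφu, hφ⟩ := Submodule.exists_dual_map_eq_bot_of_notMem hu inferInstance
    set a : Fin 3 → F := fun i => φ (Pi.single i 1) with ha
    have hφa : ∀ x, φ x = a ⬝ᵥ x := fun x => by
      conv_lhs => rw [pi_eq_sum_univ' x, map_sum]
      simp only [map_smul, smul_eq_mul, dotProduct, ha]
      exact Finset.sum_congr rfl fun i _ => mul_comm _ _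
    have hker : W = LinearMap.ker φ := by
      refine Submodule.eq_of_le_of_finrank_le (fun x hx => ?_) ?_
      · have : φ x ∈ W.map φ := ⟨x, hx, rfl⟩
        rwa [hφ, Submodule.mem_bot] at this
      · have hr := Module.Dual.finrank_ker_add_one_of_ne_zero (f := φ) (fun e => hφu (by rw [e]; rfl))
        rw [Module.finrank_fin_fun] at hr
        omega
    let Di : GL (Fin 3) F →* GL (Fin 3) F :=
      { toFun := fun x => ⟨(x⁻¹).val.transpose, x.val.transpose,
          by rw [← Matrix.transpose_mul, Units.mul_inv, Matrix.transpose_one],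
          by rw [← Matrix.transpose_mul, Units.inv_mul, Matrix.transpose_one]⟩
        map_one' := Units.ext (by simp)
        map_mul' := fun x y => Units.ext (by simp [Matrix.transpose_mul]) }
    have hDD : ∀ x, Di (Di x) = x := fun x => Units.ext (by
      show (x.val.transpose).transpose = x.val
      rw [Matrix.transpose_transpose])
    let D : GL (Fin 3) F ≃* GL (Fin 3) F :=
      { toFun := Di, invFun := Di, left_inv := hDD, right_inv := hDD, map_mul' := map_mul Di }
    have hDs : ∀ x, D x ∈ scalars (Fin 3) F ↔ x ∈ scalars (Fin 3) F := by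
      have key : ∀ x, x ∈ scalars (Fin 3) F → Di x ∈ scalars (Fin 3) F := fun x hx => by
        obtain ⟨c, -, hc⟩ := exists_scalar (inv_mem hx)
        exact mem_scalars_of_val (c := c) (by
          show (x⁻¹).val.transpose = _
          rw [hc, Matrix.transpose_smul, Matrix.transpose_one])
      exact fun x => ⟨fun h => by simpa [D, hDD] using key _ h, key x⟩
    have hDsl : ∀ x ∈ specialLinear (Fin 3) F, D x ∈ specialLinear (Fin 3) F := fun x hx => by
      apply MonoidHom.mem_ker.2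
      apply Units.ext
      rw [Matrix.GeneralLinearGroup.val_det_apply, Units.val_one]
      show (x⁻¹).val.transpose.det = 1
      rw [Matrix.det_transpose]
      exact det_val_eq_one (inv_mem hx)
    obtain ⟨k, hk⟩ := exists_col (fun e => hφu (by rw [hφa, e, zero_dotProduct]) : a ≠ 0)
    refine line (D.trans (MulAut.conj k⁻¹)) (fun x => by
        rw [MulEquiv.trans_apply, conj_mem_scalars_iff k⁻¹ (D x)]; exact hDs x)
      (fun x hx => ?_) fun x hx => ?_
    · exact (MonoidHom.normal_ker (Matrix.GeneralLinearGroup.det : GL (Fin 3) F →* Fˣ)).conj_mem _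
        (hDsl x hx) _
    simp only [MulEquiv.trans_apply, MulAut.conj_apply, inv_inv]
    refine col k (D x) ((a ⬝ᵥ ((x⁻¹).val *ᵥ u)) / φ u) ?_
    rw [hk]
    show (x⁻¹).val.transpose *ᵥ a = _
    rw [Matrix.mulVec_transpose]
    funext i
    have hi : φ (φ u • Pi.single i 1 - φ (Pi.single i 1) • u) = 0 := by
      simp [map_sub, map_smul, mul_comm]
    have h' : φ ((x⁻¹).val *ᵥ (φ u • Pi.single i 1 - φ (Pi.single i 1) • u)) = 0 := by
      have := hW _ (inv_mem hx) _ (by rw [hker]; exact hi)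
      rwa [hker] at this
    rw [Matrix.mulVec_sub, Matrix.mulVec_smul, Matrix.mulVec_smul, map_sub, map_smul, map_smul,
      sub_eq_zero] at h'
    simp only [smul_eq_mul, hφa, Matrix.dotProduct_mulVec, dotProduct_single_one] at h' hφu ⊢
    simp only [Pi.smul_apply, smul_eq_mul]
    rw [div_mul_eq_mul_div, eq_div_iff hφu]
    linear_combination h'

end Cfsg.Lib.Linear.Mitchell.Sub3
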