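import Cfsg.Agent.Lib.Linear.Mitchell.Sub3.Basic
import Cfsg.Agent.Lib.Linear.Aschbacher.Basic

/-!
# Elements of order three, five and seven of `SL₃`

An element of order seven conjugate to its square has eigenvalues `ζ, ζ², ζ⁴`, so `q³ ≡ 1 (mod 7)` and
it is not conjugate to its inverse; an element of order five cannot have the trace both of its
inverse and of its square.  Two elements of order three generating a group of order nine modulo
scalars do not commute; their commutator is a primitive cube root of unity and they span the matrix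
algebra, so they determine the determinant of what normalises them, and their centraliser.
-/

set_option autoImplicit false

namespace Cfsg.Lib.Linear.Mitchell.Sub3

open Cfsg.Geo
open scoped Matrix MatrixGroups

variable {F : Type*} [Field F]

theorem natCast_ne_zero (p : ℕ) [Fact p.Prime] [CharP F p] {r : ℕ} (hr : r.Prime) (hpr : p ≠ r) :
    (r : F) ≠ 0 := fun h =>
  hpr ((Nat.prime_dvd_prime_iff_eq Fact.out hr).1 ((CharP.cast_eq_zero_iff F p r).1 h))

theorem mod_ne_zero [Fintype F] (p : ℕ) [Fact p.Prime] [CharP F p] {r : ℕ} (hr : r.Prime) (hpr : p ≠ r) :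
    Fintype.card F % r ≠ 0 := fun h => by
  obtain ⟨n, -, hn⟩ := FiniteField.card F p
  rw [hn] at h
  exact hpr.symm ((Nat.prime_dvd_prime_iff_eq hr Fact.out).1 (hr.dvd_of_dvd_pow (Nat.dvd_of_mod_eq_zero h)))

/-- The residue of `q` when `GL₃(q)` has an element of order `r`. -/
theorem residue_of_order [Fintype F] {r : ℕ} (hr : r.Prime) {g : GL (Fin 3) F} (ho : orderOf g = r)
    (h0 : Fintype.card F % r ≠ 0) :
    r ∣ (Fintype.card F ^ 3 - 1) * (Fintype.card F ^ 2 - 1) * (Fintype.card F - 1) := by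
  have h := orderOf_dvd_natCard g
  rw [ho, Matrix.card_GL_field, Fin.prod_univ_three] at h
  set q := Fintype.card F with hq
  have hq1 : 1 ≤ q := Fintype.card_pos
  have e : (q ^ 3 - q ^ ((0 : Fin 3) : ℕ)) * (q ^ 3 - q ^ ((1 : Fin 3) : ℕ)) *
      (q ^ 3 - q ^ ((2 : Fin 3) : ℕ)) =
        q ^ 3 * ((q ^ 3 - 1) * (q ^ 2 - 1) * (q - 1)) := by
    simp only [Fin.val_zero, Fin.val_one, Fin.val_two, pow_zero, pow_one]
    rw [show q ^ 3 - q = q * (q ^ 2 - 1) by rw [Nat.mul_sub_left_distrib, mul_one]; ring_nf,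
      show q ^ 3 - q ^ 2 = q ^ 2 * (q - 1) by rw [Nat.mul_sub_left_distrib, mul_one]; ring_nf]
    ring
  rw [e] at h
  refine (hr.dvd_mul.1 h).resolve_left fun h3 => h0 ?_
  exact Nat.mod_eq_zero_of_dvd (hr.dvd_of_dvd_pow h3)

theorem dvd_pred_pow_mod {r q n : ℕ} (hq : 1 ≤ q) (hr : 1 < r) :
    r ∣ q ^ n - 1 ↔ (q % r) ^ n % r = 1 := by
  rw [← Nat.pow_mod, ← Nat.modEq_iff_dvd' (Nat.one_le_pow _ _ hq)]
  unfold Nat.ModEq
  rw [Nat.mod_eq_of_lt hr, eq_comm]

/-- A nontrivial element of order five or seven is not unipotent. -/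
theorem not_traces (p : ℕ) [Fact p.Prime] [CharP F p] {n : ℕ} (hn : n = 5 ∨ n = 7) (hpn : p ≠ n)
    {g : GL (Fin 3) F} (hd : g.val.det = 1) (hg : g ^ n = 1) (hg1 : g ≠ 1)
    (h2 : (g * g).val.trace = g.val.trace) : (g⁻¹).val.trace ≠ g.val.trace := by
  intro hi
  have hnp : n.Prime := by rcases hn with rfl | rfl <;> norm_num
  haveI : Fact n.Prime := ⟨hnp⟩
  have ho : orderOf g = n := orderOf_eq_prime hg hg1
  rcases order_of_traces p hd h2 hi with h | h
  · have := orderOf_dvd_of_pow_eq_one h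
    rw [ho] at this
    have := Nat.le_of_dvd (by norm_num) this
    omega
  · have := orderOf_dvd_of_pow_eq_one h
    rw [ho] at this
    exact hpn ((Nat.prime_dvd_prime_iff_eq hnp Fact.out).1 (hnp.dvd_of_dvd_pow this)).symm

/-- An element of order seven conjugate to its square. -/
theorem seven_cases [Fintype F] (p : ℕ) [Fact p.Prime] [CharP F p] (hp : p ≠ 7) {g : GL (Fin 3) F}
    (hd : g.val.det = 1) (hg : g ^ 7 = 1) (hg1 : g ≠ 1) (h2 : (g * g).val.trace = g.val.trace) :
    (g⁻¹).val.trace ≠ g.val.trace ∧ Fintype.card F ^ 3 % 7 = 1 := by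
  have hne := not_traces p (Or.inr rfl) hp hd hg hg1 h2
  refine ⟨hne, ?_⟩
  haveI : Fact (Nat.Prime 7) := ⟨by norm_num⟩
  have h7 : Nat.Prime 7 := by norm_num
  have h0 := mod_ne_zero (F := F) p h7 hp
  have hq1 : 1 ≤ Fintype.card F := Fintype.card_pos
  have hdvd := residue_of_order h7 (orderOf_eq_prime hg hg1) h0
  have h6 : Fintype.card F % 7 ≠ 6 := fun h6 => hne (by
    have e : g ^ Fintype.card F = g⁻¹ := by
      refine eq_inv_of_mul_eq_one_left ?_
      rw [← pow_succ, show Fintype.card F + 1 = 7 * (Fintype.card F / 7 + 1) by omega, pow_mul, hg, one_pow]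
    rw [← e, trace_pow_q])
  rw [h7.dvd_mul, h7.dvd_mul, dvd_pred_pow_mod hq1 (by norm_num), dvd_pred_pow_mod hq1 (by norm_num),
    ← pow_one (Fintype.card F), dvd_pred_pow_mod hq1 (by norm_num), pow_one (Fintype.card F)] at hdvd
  have hlt := Nat.mod_lt (Fintype.card F) (show 7 > 0 by norm_num)
  rw [Nat.pow_mod]
  generalize hr : Fintype.card F % 7 = r at *
  interval_cases r <;> simp_all

/-- An element of order five. -/
theorem five_residue [Fintype F] (p : ℕ) [Fact p.Prime] [CharP F p] (hp : p ≠ 5) {g : GL (Fin 3) F}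
    (hg : g ^ 5 = 1) (hg1 : g ≠ 1) : Fintype.card F % 5 = 1 ∨ Fintype.card F % 5 = 4 := by
  haveI : Fact (Nat.Prime 5) := ⟨by norm_num⟩
  have h5 : Nat.Prime 5 := by norm_num
  have h0 := mod_ne_zero (F := F) p h5 hp
  have hq1 : 1 ≤ Fintype.card F := Fintype.card_pos
  have hdvd := residue_of_order h5 (orderOf_eq_prime hg hg1) h0
  rw [h5.dvd_mul, h5.dvd_mul, dvd_pred_pow_mod hq1 (by norm_num), dvd_pred_pow_mod hq1 (by norm_num),
    ← pow_one (Fintype.card F), dvd_pred_pow_mod hq1 (by norm_num), pow_one (Fintype.card F)] at hdvd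
  have hlt := Nat.mod_lt (Fintype.card F) (show 5 > 0 by norm_num)
  generalize hr : Fintype.card F % 5 = r at *
  interval_cases r <;> simp_all

theorem scalar_of_smul_eq {g : GL (Fin 3) F} {s t : F} (hs : s ≠ 0) (h : s • g.val = t • (1 : Matrix (Fin 3) (Fin 3) F)) :
    g ∈ scalars (Fin 3) F :=
  mem_scalars_of_val (c := s⁻¹ * t) (by rw [mul_smul, ← h, inv_smul_smul₀ hs])

/-- Non-scalar elements of order three have trace zero. -/
theorem trace_eq_zero {g : GL (Fin 3) F} (hd : g.val.det = 1) (h3 : g ^ 3 = 1)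
    (hns : g ∉ scalars (Fin 3) F) : g.val.trace = 0 := by
  by_contra hs
  have hc := cayley_sl hd
  have h3' : g.val * g.val * g.val = 1 := by
    rw [← Units.val_mul, ← Units.val_mul, show g * g * g = g ^ 3 by rw [pow_three'], h3, Units.val_one]
  rw [h3'] at hc
  have e : (-(g.val.trace) • g.val + (g⁻¹).val.trace • (1 : Matrix (Fin 3) (Fin 3) F)) * g.val = 0 := by
    rw [add_mul, Matrix.smul_mul, Matrix.smul_mul, one_mul, neg_smul]
    rw [← hc]
    abel
  have e2 := congrArg (fun M => M * (g⁻¹).val) e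
  simp only [zero_mul, mul_assoc, Units.mul_inv, mul_one, neg_smul] at e2
  rw [neg_add_eq_zero] at e2
  exact hns (scalar_of_smul_eq hs e2)

theorem trace_idempotent_le (e : Matrix (Fin 3) (Fin 3) F) (he : e * e = e) :
    ∃ r : ℕ, r ≤ 3 ∧ e.trace = (r : F) ∧ Module.finrank F (LinearMap.range (Matrix.toLin' e)) = r := by
  have hp : LinearMap.IsProj (LinearMap.range (Matrix.toLin' e)) (Matrix.toLin' e) :=
    ⟨fun x => ⟨x, rfl⟩, fun x hx => by
      obtain ⟨y, rfl⟩ := hx
      rw [← LinearMap.comp_apply, ← Matrix.toLin'_mul, he]⟩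
  refine ⟨_, ?_, ?_, rfl⟩
  · exact (Submodule.finrank_le _).trans (by rw [Module.finrank_fin_fun])
  · rw [← LinearMap.IsProj.trace hp, LinearMap.trace_eq_matrix_trace F (Pi.basisFun F (Fin 3)),
      LinearMap.toMatrix_eq_toMatrix', LinearMap.toMatrix'_toLin']

/-- Two commuting elements of order three whose products are non-scalar. -/
theorem no_commuting_pair (p : ℕ) [Fact p.Prime] [CharP F p] (hp2 : p ≠ 2) (hp3 : p ≠ 3)
    {x y : GL (Fin 3) F} (hx : x ∈ specialLinear (Fin 3) F) (hy : y ∈ specialLinear (Fin 3) F)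
    (hx3 : x ^ 3 = 1) (hy3 : y ^ 3 = 1) (hc : x * y = y * x)
    (hns : ∀ i j : ℕ, i < 3 → j < 3 → (i ≠ 0 ∨ j ≠ 0) → x ^ i * y ^ j ∉ scalars (Fin 3) F) : False := by
  have h2 : (2 : F) ≠ 0 := by simpa using natCast_ne_zero (F := F) p Nat.prime_two hp2
  have h3 : (3 : F) ≠ 0 := by simpa using natCast_ne_zero (F := F) p Nat.prime_three hp3
  have htr : ∀ i j : ℕ, i < 3 → j < 3 → (i ≠ 0 ∨ j ≠ 0) → (x ^ i * y ^ j).val.trace = 0 :=
    fun i j hi hj h => trace_eq_zero (det_val_eq_one (mul_mem (pow_mem hx i) (pow_mem hy j))) (by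
      rw [(show Commute x y from hc).pow_pow i j |>.mul_pow, ← pow_mul, ← pow_mul, mul_comm i, mul_comm j,
        pow_mul, pow_mul, hx3, hy3, one_pow, one_pow, one_mul]) (hns i j hi hj h)
  let A : GL (Fin 3) F → Matrix (Fin 3) (Fin 3) F := fun z => (3 : F)⁻¹ • (1 + z.val + (z ^ 2).val)
  have hA : ∀ z : GL (Fin 3) F, z ^ 3 = 1 → A z * A z = A z := by
    intro z hz
    have hz' : z.val * z.val * z.val = 1 := by
      rw [← Units.val_mul, ← Units.val_mul, show z * z * z = z ^ 3 by rw [pow_three'], hz, Units.val_one]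
    have hz4 : z.val * z.val * (z.val * z.val) = z.val := by rw [← mul_assoc, hz', one_mul]
    have e : (1 + z.val + z.val * z.val) * (1 + z.val + z.val * z.val) =
        (3 : F) • (1 + z.val + z.val * z.val) := by
      simp only [show (3 : F) = ((3 : ℕ) : F) by norm_num, Nat.cast_smul_eq_nsmul, add_mul, mul_add,
        one_mul, mul_one, ← mul_assoc, hz']
      abel
    simp only [A, pow_two, Units.val_mul, Matrix.smul_mul, Matrix.mul_smul, e, smul_smul]
    rw [inv_mul_cancel₀ h3, mul_one]
  set e := A x * A y with he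
  have hcA : A x * A y = A y * A x := by
    have c : Commute x.val y.val := by
      show x.val * y.val = y.val * x.val
      rw [← Units.val_mul, hc, Units.val_mul]
    have c1 : Commute (1 + x.val + x.val * x.val) (1 + y.val + y.val * y.val) :=
      (((Commute.one_left _).add_left ((Commute.one_right _).add_right c |>.add_right (c.mul_right c))).add_left
        (((Commute.one_right _).add_right c |>.add_right (c.mul_right c)).mul_left
          ((Commute.one_right _).add_right c |>.add_right (c.mul_right c))))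
    simp only [A, pow_two, Units.val_mul, Matrix.smul_mul, Matrix.mul_smul, c1.eq]
  have hee : e * e = e := by
    rw [he]
    calc A x * A y * (A x * A y) = A x * (A y * A x) * A y := by simp only [mul_assoc]
      _ = A x * A x * (A y * A y) := by rw [← hcA]; simp only [mul_assoc]
      _ = A x * A y := by rw [hA x hx3, hA y hy3]
  have hte : e.trace = (3 : F)⁻¹ := by
    have t : ∀ i j : ℕ, i < 3 → j < 3 → (x.val ^ i * y.val ^ j).trace = if i = 0 ∧ j = 0 then 3 else 0 := by
      intro i j hi hj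
      split_ifs with h
      · rw [h.1, h.2, pow_zero, pow_zero, one_mul, Matrix.trace_one, Fintype.card_fin]; norm_num
      · rw [← Units.val_pow_eq_pow_val, ← Units.val_pow_eq_pow_val, ← Units.val_mul]
        exact htr i j hi hj (by omega)
    have hexp : (1 + x.val + x.val ^ 2) * (1 + y.val + y.val ^ 2) =
        x.val ^ 0 * y.val ^ 0 + x.val ^ 0 * y.val ^ 1 + x.val ^ 0 * y.val ^ 2 +
        x.val ^ 1 * y.val ^ 0 + x.val ^ 1 * y.val ^ 1 + x.val ^ 1 * y.val ^ 2 +
        x.val ^ 2 * y.val ^ 0 + x.val ^ 2 * y.val ^ 1 + x.val ^ 2 * y.val ^ 2 := by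
      simp only [pow_zero, pow_one, pow_two, one_mul, mul_one, add_mul, mul_add]
      abel
    simp only [he, A, Units.val_pow_eq_pow_val, Matrix.smul_mul, Matrix.mul_smul, hexp, Matrix.trace_smul,
      Matrix.trace_add]
    rw [t 0 0 (by norm_num) (by norm_num), t 0 1 (by norm_num) (by norm_num),
      t 0 2 (by norm_num) (by norm_num), t 1 0 (by norm_num) (by norm_num),
      t 1 1 (by norm_num) (by norm_num), t 1 2 (by norm_num) (by norm_num),
      t 2 0 (by norm_num) (by norm_num), t 2 1 (by norm_num) (by norm_num),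
      t 2 2 (by norm_num) (by norm_num)]
    norm_num [smul_eq_mul]
    field_simp
  have htx : (A x).trace = 1 := by
    have h1 : x.val.trace = 0 := by simpa using htr 1 0 (by norm_num) (by norm_num) (Or.inl one_ne_zero)
    have h2' : (x.val * x.val).trace = 0 := by
      simpa [pow_two] using htr 2 0 (by norm_num) (by norm_num) (Or.inl two_ne_zero)
    simp only [A, pow_two, Units.val_mul, Matrix.trace_smul, Matrix.trace_add, Matrix.trace_one, h1, h2',
      Fintype.card_fin]
    norm_num [h3]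
  obtain ⟨r, hr, hre, hrk⟩ := trace_idempotent_le e hee
  obtain ⟨s, hs, hse, hsk⟩ := trace_idempotent_le (A x) (hA x hx3)
  have hs1 : s = 1 := by
    rw [htx] at hse
    interval_cases s
    · simp at hse
    · rfl
    · exact absurd hse (fun h => one_ne_zero (α := F) (by push_cast at h; linear_combination -h))
    · norm_num at hse
      exact absurd (show (2 : F) = 0 by linear_combination -hse) h2
  have hrs : r ≤ s := by
    rw [← hrk, ← hsk]
    refine Submodule.finrank_mono ?_
    rw [he, Matrix.toLin'_mul]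
    exact LinearMap.range_comp_le_range _ _
  rw [hte] at hre
  interval_cases r
  · simp at hre
    exact h3 hre
  · rw [Nat.cast_one, inv_eq_one] at hre
    exact h2 (by linear_combination hre)
  all_goals omega

/-- Powers of a pair with scalar commutator. -/
theorem pow_swap {x y : GL (Fin 3) F} {c : F} (hyx : (y * x).val = c • (x * y).val) :
    ∀ b a : ℕ, y.val ^ b * x.val ^ a = c ^ (a * b) • (x.val ^ a * y.val ^ b) := by
  have h1 : ∀ a : ℕ, y.val * x.val ^ a = c ^ a • (x.val ^ a * y.val) := by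
    intro a
    induction a with
    | zero => simp
    | succ a ih =>
      rw [pow_succ, ← mul_assoc, ih, Matrix.smul_mul, mul_assoc, ← Units.val_mul, hyx, Units.val_mul,
        Matrix.mul_smul, smul_smul, ← pow_succ, mul_assoc]
  intro b a
  induction b with
  | zero => simp
  | succ b ih =>
    rw [pow_succ', mul_assoc, ih, Matrix.mul_smul, ← mul_assoc, h1, Matrix.smul_mul, smul_smul, mul_assoc,
      ← pow_succ', ← pow_add, show a * b + a = a * (b + 1) by ring]

theorem val_pow_mod {x : GL (Fin 3) F} (hx : x ^ 3 = 1) (a : ℕ) : x.val ^ a = x.val ^ (a % 3) := by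
  conv_lhs => rw [← Nat.div_add_mod a 3, pow_add, pow_mul, ← Units.val_pow_eq_pow_val x 3, hx,
    Units.val_one, one_pow, one_mul]

theorem heis_trace {x y : GL (Fin 3) F} {c : F} (hc : IsPrimitiveRoot c 3) (hx : x ^ 3 = 1)
    (hy : y ^ 3 = 1) (hyx : (y * x).val = c • (x * y).val) (a b : ℕ) :
    (x.val ^ a * y.val ^ b).trace = if a % 3 = 0 ∧ b % 3 = 0 then 3 else 0 := by
  split_ifs with h
  · rw [val_pow_mod hx a, val_pow_mod hy b, h.1, h.2, pow_zero, pow_zero, one_mul, Matrix.trace_one,
      Fintype.card_fin]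
    norm_num
  · have h2 : ∀ d, c ^ d = 1 → d % 3 = 0 := fun d hd =>
      Nat.mod_eq_zero_of_dvd ((hc.pow_eq_one_iff_dvd d).1 hd)
    set t := (x.val ^ a * y.val ^ b).trace with ht
    have e1 : c ^ a * t = t := by
      have h1 := pow_swap hyx 1 a
      rw [pow_one, mul_one] at h1
      have : (y.val * (x.val ^ a * y.val ^ b) * (y⁻¹).val).trace = t := by
        rw [Matrix.trace_mul_comm, ← mul_assoc, Units.inv_mul, one_mul]
      rw [← mul_assoc, h1, Matrix.smul_mul, mul_assoc (x.val ^ a), ← pow_succ', Matrix.smul_mul,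
        Matrix.trace_smul, mul_assoc, pow_succ, mul_assoc, Units.mul_inv, mul_one, smul_eq_mul,
        ← ht] at this
      exact this
    have e2 : c ^ b * t = t := by
      have h1 := pow_swap hyx b 1
      rw [pow_one, one_mul] at h1
      have : (x.val * (x.val ^ a * y.val ^ b) * (x⁻¹).val).trace = t := by
        rw [Matrix.trace_mul_comm, ← mul_assoc, Units.inv_mul, one_mul]
      have h3 : (x.val ^ a * (y.val ^ b * x.val)).trace = c ^ b * (x.val ^ a * (x.val * y.val ^ b)).trace := by
        rw [h1, Matrix.mul_smul, Matrix.trace_smul, smul_eq_mul]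
      have h4 : (x.val ^ a * (y.val ^ b * x.val) * (x⁻¹).val).trace = t := by
        rw [mul_assoc, mul_assoc (y.val ^ b), Units.mul_inv, mul_one]
      have h5 : x.val ^ a * (y.val ^ b * x.val) * (x⁻¹).val =
          c ^ b • (x.val * (x.val ^ a * y.val ^ b) * (x⁻¹).val) := by
        rw [h1, Matrix.mul_smul, Matrix.smul_mul, ← mul_assoc (x.val ^ a) x.val, ← pow_succ, pow_succ',
          mul_assoc x.val]
      rw [h5, Matrix.trace_smul, this, smul_eq_mul] at h4
      exact h4
    by_contra ht0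
    exact h ⟨h2 a (mul_right_cancel₀ ht0 (by rw [e1, one_mul])),
      h2 b (mul_right_cancel₀ ht0 (by rw [e2, one_mul]))⟩

/-- The nine products span the matrix algebra. -/
theorem heis_span (h3 : (3 : F) ≠ 0) {x y : GL (Fin 3) F} {c : F} (hc : IsPrimitiveRoot c 3)
    (hx : x ^ 3 = 1) (hy : y ^ 3 = 1) (hyx : (y * x).val = c • (x * y).val) :
    Submodule.span F (Set.range fun k : Fin 3 × Fin 3 => x.val ^ (k.1 : ℕ) * y.val ^ (k.2 : ℕ)) = ⊤ := by
  refine LinearIndependent.span_eq_top_of_card_eq_finrank ?_ (by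
    rw [Fintype.card_prod, Fintype.card_fin, Module.finrank_matrix, Module.finrank_self, Fintype.card_fin])
  rw [Fintype.linearIndependent_iff]
  intro g hg k
  have h := congrArg (fun M => (x.val ^ (3 - (k.1 : ℕ)) * M * y.val ^ (3 - (k.2 : ℕ))).trace) hg
  simp only [Matrix.mul_sum, Matrix.sum_mul, Matrix.mul_smul, Matrix.smul_mul, Matrix.trace_sum,
    Matrix.trace_smul, mul_zero, zero_mul, Matrix.trace_zero] at h
  rw [Finset.sum_eq_single k (fun l _ hl => ?_) (fun hk => absurd (Finset.mem_univ k) hk)] at h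
  · rw [← mul_assoc, ← pow_add, mul_assoc, ← pow_add, heis_trace hc hx hy hyx,
      if_pos ⟨by have := k.1.2; omega, by have := k.2.2; omega⟩, smul_eq_mul] at h
    exact (mul_eq_zero.1 h).resolve_right h3
  · rw [← mul_assoc, ← pow_add, mul_assoc, ← pow_add, heis_trace hc hx hy hyx, if_neg, smul_zero]
    rintro ⟨e1, e2⟩
    have := k.1.2; have := k.2.2; have := l.1.2; have := l.2.2
    exact hl (Prod.ext (Fin.ext (by omega)) (Fin.ext (by omega)))

/-- What commutes with both is scalar. -/
theorem heis_centralizer (h3 : (3 : F) ≠ 0) {x y : GL (Fin 3) F} {c : F} (hc : IsPrimitiveRoot c 3)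
    (hx : x ^ 3 = 1) (hy : y ^ 3 = 1) (hyx : (y * x).val = c • (x * y).val) {d : GL (Fin 3) F}
    (h1 : d * x = x * d) (h2 : d * y = y * d) : d ∈ scalars (Fin 3) F := by
  have hspan := heis_span h3 hc hx hy hyx
  have hall : ∀ M : Matrix (Fin 3) (Fin 3) F, d.val * M = M * d.val := by
    intro M
    have hM : M ∈ Submodule.span F
        (Set.range fun k : Fin 3 × Fin 3 => x.val ^ (k.1 : ℕ) * y.val ^ (k.2 : ℕ)) := by rw [hspan]; trivial
    induction hM using Submodule.span_induction with
    | mem v hv =>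
      obtain ⟨k, rfl⟩ := hv
      have ex : Commute d.val x.val := by
        show d.val * x.val = x.val * d.val
        rw [← Units.val_mul, h1, Units.val_mul]
      have ey : Commute d.val y.val := by
        show d.val * y.val = y.val * d.val
        rw [← Units.val_mul, h2, Units.val_mul]
      exact ((ex.pow_right _).mul_right (ey.pow_right _)).eq
    | zero => simp
    | add a b _ _ ha hb => rw [mul_add, add_mul, ha, hb]
    | smul r a _ ha => rw [Matrix.mul_smul, Matrix.smul_mul, ha]
  obtain ⟨r, hr⟩ := Asch.exists_smul_one (M := d.val) fun v => by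
    by_cases hv : v = 0
    · exact ⟨0, by simp [hv]⟩
    obtain ⟨i, hi⟩ := Function.ne_iff.1 hv
    have e := congrArg (fun M => M *ᵥ (Pi.single i (1 : F) : Fin 3 → F))
      (hall (Matrix.vecMulVec v (Pi.single i 1)))
    rw [Matrix.mul_vecMulVec, Matrix.vecMulVec_mul, Matrix.vecMulVec_mulVec, Matrix.vecMulVec_mulVec] at e
    simp only [dotProduct_single_one, Pi.single_eq_same, MulOpposite.op_one, one_smul] at e
    exact ⟨(Pi.single i 1 ᵥ* d.val) i, by rw [e]; simp⟩
  exact mem_scalars_of_val hr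

/-- The exponent of the commutator of two products. -/
theorem heis_det (h3 : (3 : F) ≠ 0) {x y : GL (Fin 3) F} {c : F} (hc : IsPrimitiveRoot c 3)
    (hyx : (y * x).val = c • (x * y).val) (k : GL (Fin 3) F) {r s : F} {α β γ δ : ℕ}
    (hr : r ≠ 0) (hs : s ≠ 0)
    (h1 : (k * x * k⁻¹).val = r • (x.val ^ α * y.val ^ β))
    (h2 : (k * y * k⁻¹).val = s • (x.val ^ γ * y.val ^ δ)) :
    (α * δ) % 3 = (1 + β * γ) % 3 := by
  have hA : (k * (y * x) * k⁻¹).val = (s * r * c ^ (α * δ)) • (x.val ^ (γ + α) * y.val ^ (δ + β)) := by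
    rw [show k * (y * x) * k⁻¹ = (k * y * k⁻¹) * (k * x * k⁻¹) by group, Units.val_mul, h1, h2,
      Matrix.smul_mul, Matrix.mul_smul, smul_smul,
      show x.val ^ γ * y.val ^ δ * (x.val ^ α * y.val ^ β) = x.val ^ γ * (y.val ^ δ * x.val ^ α) * y.val ^ β by
        simp only [mul_assoc],
      pow_swap hyx, Matrix.mul_smul, Matrix.smul_mul, smul_smul, ← mul_assoc (x.val ^ γ), ← pow_add,
      mul_assoc (x.val ^ (γ + α)), ← pow_add]
  have hB : (k * (x * y) * k⁻¹).val = (r * s * c ^ (γ * β)) • (x.val ^ (α + γ) * y.val ^ (β + δ)) := by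
    rw [show k * (x * y) * k⁻¹ = (k * x * k⁻¹) * (k * y * k⁻¹) by group, Units.val_mul, h1, h2,
      Matrix.smul_mul, Matrix.mul_smul, smul_smul,
      show x.val ^ α * y.val ^ β * (x.val ^ γ * y.val ^ δ) = x.val ^ α * (y.val ^ β * x.val ^ γ) * y.val ^ δ by
        simp only [mul_assoc],
      pow_swap hyx, Matrix.mul_smul, Matrix.smul_mul, smul_smul, ← mul_assoc (x.val ^ α), ← pow_add,
      mul_assoc (x.val ^ (α + γ)), ← pow_add]
  rw [Units.val_mul, Units.val_mul, hyx, Matrix.mul_smul, Matrix.smul_mul, ← Units.val_mul,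
    ← Units.val_mul, hB, smul_smul, add_comm γ α, add_comm δ β] at hA
  have hne : x.val ^ (α + γ) * y.val ^ (β + δ) ≠ 0 := by
    rw [← Units.val_pow_eq_pow_val, ← Units.val_pow_eq_pow_val, ← Units.val_mul]
    exact Units.ne_zero _
  have e := smul_left_injective F hne hA
  have e' : c ^ (1 + β * γ) = c ^ (α * δ) := by
    refine mul_left_cancel₀ (mul_ne_zero hr hs) ?_
    rw [pow_add, pow_one, mul_comm β γ]
    linear_combination e
  have h := (hc.isOfFinOrder three_ne_zero).pow_eq_pow_iff_modEq.1 e'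
  rw [← hc.eq_orderOf] at h
  exact h.symm

end Cfsg.Lib.Linear.Mitchell.Sub3
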